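import Cfsg.Agent.Lib.U62Cent47.Local
import Cfsg.Agent.Lib.U62Cent47.Natural

/-!
The six-dimensional model is an action of SU(4, 2): a singular vector is determined by the five
transvections fixing it. Also the orbits.

Owner: helper47.
-/

set_option autoImplicit false
set_option maxRecDepth 20000

namespace Cfsg.Agent.Lib.U62Cent47

open Cfsg.Agent.Lib.U62Recog47 (smN hN)

/-- the singular vectors of the six-dimensional model -/
def singL : List Nat := (List.range 64).filter fun y => y != 0 && !qB 0 y

/-- conjugate transvections correspond, in both models -/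
def relChk (l : List Nat) : Bool :=
  l.all fun a => ptsL.all fun p => ([1, 2, 3].map fun l => smN l (tN a p)).any fun c =>
    ptsL.contains c && eqW [a, p, a] [c] &&
      (List.range 6).all fun i => tS a (tS p (tS a (2 ^ i))) == tS c (2 ^ i)

theorem rel_ok0 : relChk ((ptsL.drop 0).take 9) = true := by decide +kernel

theorem rel_ok1 : relChk ((ptsL.drop 9).take 9) = true := by decide +kernel

theorem rel_ok2 : relChk ((ptsL.drop 18).take 9) = true := by decide +kernel

theorem rel_ok3 : relChk ((ptsL.drop 27).take 9) = true := by decide +kernel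

theorem rel_ok4 : relChk ((ptsL.drop 36).take 9) = true := by decide +kernel

theorem rel_cover : ptsL.all (fun a => [0, 9, 18, 27, 36].any fun u => ((ptsL.drop u).take 9).contains a) = true := by
  decide +kernel

theorem rel_chunk : ∀ u ∈ [0, 9, 18, 27, 36], relChk ((ptsL.drop u).take 9) = true := by
  intro u hu
  simp only [List.mem_cons, List.not_mem_nil, or_false] at hu
  rcases hu with rfl | rfl | rfl | rfl | rfl
  exacts [rel_ok0, rel_ok1, rel_ok2, rel_ok3, rel_ok4]

theorem rel_ok : relChk ptsL = true := by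
  rw [relChk, List.all_eq_true]
  intro a ha
  obtain ⟨u, hu, hm⟩ := List.any_eq_true.1 (List.all_eq_true.1 rel_cover a ha)
  have h := rel_chunk u hu
  rw [relChk, List.all_eq_true] at h
  exact h a (List.contains_iff_mem.1 hm)

theorem q6_ok : ptsL.all (fun a => (List.range 64).all fun y => qB 0 (tS a y) == qB 0 y) = true := by
  decide +kernel

theorem sing_sep_ok : singL.all (fun y => singL.all fun y' =>
    y == y' || ptsL.any fun p => tS p y == y && tS p y' != y') = true := by decide +kernel

theorem sing_span_ok : (List.range 6).all (fun i => singL.any fun y => singL.any fun y' =>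
    y ^^^ y' == 2 ^ i) = true := by decide +kernel

theorem tS_sq_ok : ptsL.all (fun a => (List.range 64).all fun y => tS a (tS a y) == y) = true := by
  decide +kernel

theorem tS_zero (a : Nat) : tS a 0 = 0 := by
  have := tS_xor a 0 0
  rwa [Nat.xor_self, Nat.xor_self] at this

theorem w6_xor (w : List Nat) (x y : Nat) : w6 w (x ^^^ y) = w6 w x ^^^ w6 w y := by
  induction w with
  | nil => rfl
  | cons a w ih => show tS a (w6 w (x ^^^ y)) = _; rw [ih, tS_xor]; rfl

theorem w6_lt (w : List Nat) {y : Nat} (hy : y < 64) : w6 w y < 64 := by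
  induction w with
  | nil => exact hy
  | cons a w _ => exact tS_lt _ _

theorem w6_append (v w : List Nat) (y : Nat) : w6 (v ++ w) y = w6 v (w6 w y) := List.foldr_append

theorem w6_reverse {w : List Nat} (hw : OkW w) {y : Nat} (hy : y < 64) : w6 w.reverse (w6 w y) = y := by
  induction w with
  | nil => rfl
  | cons a w ih =>
    rw [List.reverse_cons, w6_append]
    show w6 w.reverse (tS a (tS a (w6 w y))) = y
    rw [beq_iff_eq.1 (List.all_eq_true.1 (List.all_eq_true.1 tS_sq_ok a (hw a List.mem_cons_self)) _
      (List.mem_range.2 (w6_lt w hy))), ih fun b hb => hw b (List.mem_cons_of_mem _ hb)]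

theorem w6_reverse' {w : List Nat} (hw : OkW w) {y : Nat} (hy : y < 64) : w6 w (w6 w.reverse y) = y := by
  have := w6_reverse (OkW.reverse hw) hy
  rwa [List.reverse_reverse] at this

theorem q6_w6 {w : List Nat} (hw : OkW w) {y : Nat} (hy : y < 64) : qB 0 (w6 w y) = qB 0 y := by
  induction w with
  | nil => rfl
  | cons a w ih =>
    show qB 0 (tS a (w6 w y)) = _
    rw [beq_iff_eq.1 (List.all_eq_true.1 (List.all_eq_true.1 q6_ok a (hw a List.mem_cons_self)) _
      (List.mem_range.2 (w6_lt w hy))), ih fun b hb => hw b (List.mem_cons_of_mem _ hb)]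

/-- linear maps on six bits agreeing on the basis are equal -/
theorem six_ext {f g : Nat → Nat} (hf : ∀ x y, f (x ^^^ y) = f x ^^^ f y)
    (hg : ∀ x y, g (x ^^^ y) = g x ^^^ g y) (h : ∀ i < 6, f (2 ^ i) = g (2 ^ i)) :
    ∀ y < 64, f y = g y := by
  intro y hy
  have h0 : ∀ {f : Nat → Nat}, (∀ x y, f (x ^^^ y) = f x ^^^ f y) → f 0 = 0 := fun {f} hf => by
    have := hf 0 0; rwa [Nat.xor_self, Nat.xor_self] at this
  have hb : ∀ y < 64, (List.range 6).foldr (fun j r => (bif y.testBit j then 2 ^ j else 0) ^^^ r) 0 = y := by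
    decide +kernel
  rw [← hb y hy]
  have : ∀ l : List Nat, (∀ i ∈ l, i < 6) →
      f (l.foldr (fun j r => (bif y.testBit j then 2 ^ j else 0) ^^^ r) 0) =
        g (l.foldr (fun j r => (bif y.testBit j then 2 ^ j else 0) ^^^ r) 0) := by
    intro l
    induction l with
    | nil => exact fun _ => (h0 hf).trans (h0 hg).symm
    | cons i l ih =>
      intro hl
      rw [List.foldr_cons, hf, hg, ih fun k hk => hl k (List.mem_cons_of_mem _ hk)]
      congr 1
      cases y.testBit i
      · exact (h0 hf).trans (h0 hg).symm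
      · exact h i (hl i List.mem_cons_self)
  exact this _ fun i hi => List.mem_range.1 hi

/-- conjugation by a word carries the map of a point to the map of another -/
theorem rel_word {w : List Nat} (hw : OkW w) {p : Nat} (hp : p ∈ ptsL) :
    ∃ c ∈ ptsL, wS w * tC p * (wS w)⁻¹ = tC c ∧ ∀ y < 64, w6 w (tS p (w6 w.reverse y)) = tS c y := by
  induction w with
  | nil => exact ⟨p, hp, by simp [wS_nil], fun y _ => rfl⟩
  | cons a w ih =>
    obtain ⟨c, hc, e, h6⟩ := ih fun b hb => hw b (List.mem_cons_of_mem _ hb)
    have ha := hw a List.mem_cons_self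
    have h0 := rel_ok
    rw [relChk] at h0
    have h := List.all_eq_true.1 (List.all_eq_true.1 h0 a ha) c hc
    simp only [List.any_eq_true, Bool.and_eq_true, List.all_eq_true, List.mem_range, beq_iff_eq,
      List.contains_iff_mem] at h
    obtain ⟨d, -, ⟨hd, hdw⟩, hd6⟩ := h
    refine ⟨d, hd, ?_, fun y hy => ?_⟩
    · have hd' := wS_of_eqW hdw
      rw [show wS [a, c, a] = tC a * tC c * tC a by simp [wS, mul_assoc], wS_single] at hd'
      rw [wS_cons, mul_inv_rev, inv_eq_of_mul_eq_one_right (tC_sq ha),
        show tC a * wS w * tC p * ((wS w)⁻¹ * tC a) = tC a * (wS w * tC p * (wS w)⁻¹) * tC a by group, e]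
      exact hd'
    · rw [List.reverse_cons, w6_append]
      show tS a (w6 w (tS p (w6 w.reverse (tS a y)))) = _
      rw [h6 _ (tS_lt _ _)]
      exact six_ext (f := fun z => tS a (tS c (tS a z))) (fun x y => by simp only [tS_xor]) (tS_xor d) hd6 y hy

theorem tC_inj {a b : Nat} (ha : a ∈ ptsL) (hb : b ∈ ptsL) (e : tC a = tC b) : a = b := by
  by_contra hne
  obtain ⟨n, hn, hn0⟩ := (line_facts ha).2.2.2.2
  obtain ⟨k, hk, rfl⟩ := (line_facts ha).2.2.1 n hn
  have h1 := ((line_facts hb).1 k hk).2
  have : tN b k = tN a k := by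
    rw [← wM_two_single, ← wM_two_single, wM_two, wM_two]
    exact wN_congr (OkW.single hb) (OkW.single ha) (by rw [wS_single, wS_single, e]) hk
  rw [this] at h1
  have hok : ptsL.all (fun a => ptsL.all fun b => a == b ||
      (lineL a).all fun n => n == 0 || !(lineL b).contains n) = true := by decide +kernel
  have h := List.all_eq_true.1 (List.all_eq_true.1 hok a ha) b hb
  simp only [Bool.or_eq_true, beq_iff_eq, List.all_eq_true] at h
  rcases (h.resolve_left hne) _ hn with e' | e'
  · exact hn0 e'
  · rw [Bool.not_eq_true', ← Bool.not_eq_true, List.contains_iff_mem] at e'; exact e' h1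

/-- a word trivial in the group is trivial on the six-dimensional model -/
theorem w6_one {u : List Nat} (hu : OkW u) (h : wS u = 1) {y : Nat} (hy : y < 64) : w6 u y = y := by
  have hcomm : ∀ p ∈ ptsL, ∀ x < 64, tS p x = x → tS p (w6 u x) = w6 u x := by
    intro p hp x hx hfix
    obtain ⟨c, hc, e, h6⟩ := rel_word hu hp
    rw [h, one_mul, inv_one, mul_one] at e
    obtain rfl := tC_inj hp hc e
    rw [← h6 _ (w6_lt u hx), w6_reverse hu hx, hfix]
  have hfix : ∀ x ∈ singL, w6 u x = x := by
    intro x hx
    obtain ⟨hx64, hxp⟩ := List.mem_filter.1 hx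
    rw [List.mem_range] at hx64
    simp only [Bool.and_eq_true, bne_iff_ne, Bool.not_eq_true'] at hxp
    have hmem : w6 u x ∈ singL := by
      refine List.mem_filter.2 ⟨List.mem_range.2 (w6_lt u hx64), ?_⟩
      simp only [Bool.and_eq_true, bne_iff_ne, Bool.not_eq_true', q6_w6 hu hx64]
      refine ⟨fun e => hxp.1 ?_, hxp.2⟩
      rw [← w6_reverse hu hx64, e]
      have := w6_xor u.reverse 0 0
      rwa [Nat.xor_self, Nat.xor_self] at this
    have hs := List.all_eq_true.1 (List.all_eq_true.1 sing_sep_ok x hx) _ hmem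
    simp only [Bool.or_eq_true, beq_iff_eq, List.any_eq_true, Bool.and_eq_true, bne_iff_ne] at hs
    rcases hs with e | ⟨p, hp, e1, e2⟩
    · exact e.symm
    · exact absurd (hcomm p hp x hx64 e1) e2
  refine six_ext (g := fun z => z) (w6_xor u) (fun _ _ => rfl) (fun i hi => ?_) y hy
  have h := List.all_eq_true.1 sing_span_ok i (List.mem_range.2 hi)
  simp only [List.any_eq_true, beq_iff_eq] at h
  obtain ⟨a, ha, b, hb, e⟩ := h
  rw [← e, w6_xor, hfix a ha, hfix b hb]

theorem w6_congr {v w : List Nat} (hv : OkW v) (hw : OkW w) (h : wS v = wS w) {y : Nat} (hy : y < 64) :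
    w6 v y = w6 w y := by
  have := w6_one (hw.reverse.append hv) (by rw [wS_append, wS_reverse hw, h, inv_mul_cancel]) hy
  rw [w6_append] at this
  rw [← w6_reverse' hw (w6_lt v hy), this]

/-- equal products act alike in every model -/
theorem wM_congr {v w : List Nat} (hv : OkW v) (hw : OkW w) (h : wS v = wS w) {m : Nat} (hm : m < 3)
    {n : Nat} (hn : n < 256) : wM m v n = wM m w n := by
  by_cases h2 : m = 2
  · subst h2; exact wN_congr hv hw h hn
  · rw [wM_six (by omega) v n hn, wM_six (by omega) w n hn,
      w6_congr hv hw h (Nat.lt_succ_of_le Nat.and_le_right : n &&& 63 < 64)]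

theorem wM_reverse {w : List Nat} (hw : OkW w) {m : Nat} (hm : m < 3) {n : Nat} (hn : n < 256) :
    wM m w.reverse (wM m w n) = n := by
  rw [← wM_append, wM_congr (hw.reverse.append hw) OkW.nil
    (by rw [wS_append, wS_reverse hw, inv_mul_cancel, wS_nil]) hm hn]
  rfl

theorem orb_tree_ok :
    ((natTree.all fun e => ptsL.contains e.2.2 && tN e.2.2 e.2.1 == e.1) &&
    ((sixTree27 ++ sixTree36).all fun e => ptsL.contains e.2.2 && tS e.2.2 e.2.1 == e.1) &&
    ((List.range natTree.length).all fun k =>
      (5 :: (natTree.take k).map fun e => e.1).contains (natTree.getD k (0, 0, 0)).2.1) &&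
    ((List.range sixTree27.length).all fun k =>
      (5 :: (sixTree27.take k).map fun e => e.1).contains (sixTree27.getD k (0, 0, 0)).2.1) &&
    ((List.range sixTree36.length).all fun k =>
      (1 :: (sixTree36.take k).map fun e => e.1).contains (sixTree36.getD k (0, 0, 0)).2.1) &&
    ((List.range 256).all fun n => n == 0 || qB 2 n || n == 5 || natTree.any fun e => e.1 == n) &&
    ((List.range 64).all fun y => y == 0 || bif qB 0 y then (y == 1 || sixTree36.any fun e => e.1 == y)
      else (y == 5 || sixTree27.any fun e => e.1 == y))) = true := by decide +kernel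

theorem tree_orbit (t : Nat → Nat → Nat) (r : Nat) (l : List (Nat × Nat × Nat))
    (h1 : ∀ e ∈ l, e.2.2 ∈ ptsL ∧ t e.2.2 e.2.1 = e.1)
    (h2 : ∀ k < l.length, (l.getD k (0, 0, 0)).2.1 ∈ r :: (l.take k).map fun e => e.1) :
    ∀ k ≤ l.length, ∀ n ∈ r :: (l.take k).map (fun e => e.1), ∃ w, OkW w ∧ w.foldr t r = n := by
  intro k
  induction k with
  | zero =>
    intro _ n hn
    simp at hn
    exact ⟨[], OkW.nil, hn.symm⟩
  | succ k ih =>
    intro hk n hn
    have hk' : k < l.length := hk
    rw [List.take_add_one, List.getElem?_eq_getElem hk', List.map_append, Option.toList_some,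
      ← List.cons_append, List.mem_append] at hn
    rcases hn with hn | hn
    · exact ih hk'.le n hn
    · simp only [List.map_cons, List.map_nil, List.mem_singleton] at hn
      obtain ⟨w, hw, e⟩ := ih hk'.le _ (h2 k hk')
      rw [List.getD_eq_getElem?_getD, List.getElem?_eq_getElem hk', Option.getD_some] at e
      obtain ⟨ha, ht⟩ := h1 _ (List.getElem_mem hk')
      exact ⟨l[k].2.2 :: w, (OkW.single ha).append hw, by rw [List.foldr_cons, e, ht, hn]⟩

theorem orbitProp : OrbitProp := by
  have h := orb_tree_ok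
  simp only [Bool.and_eq_true] at h
  obtain ⟨⟨⟨⟨⟨⟨hN, hS⟩, hN2⟩, h27⟩, h36⟩, hNc⟩, hSc'⟩ := h
  simp only [Bool.and_eq_true, List.all_eq_true, List.contains_iff_mem, List.mem_range, beq_iff_eq,
    Bool.or_eq_true, List.any_eq_true, List.mem_append] at hN hS hN2 h27 h36 hNc
  have hSc := fun y (hy : y < 64) => List.all_eq_true.1 hSc' y (List.mem_range.2 hy)
  refine ⟨fun n hn hn0 hq => ?_, fun y hy hy0 => ?_⟩
  · have hmem : n ∈ 5 :: natTree.map fun e => e.1 := by
      rcases hNc n hn with ((h | h) | h) | ⟨e, he, h⟩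
      · exact absurd h hn0
      · rw [hq] at h; exact Bool.noConfusion h
      · rw [h]; exact List.mem_cons_self
      · exact List.mem_cons_of_mem _ (List.mem_map.2 ⟨e, he, h⟩)
    obtain ⟨w, hw, e⟩ := tree_orbit tN 5 natTree hN hN2 natTree.length le_rfl n
      (by rwa [List.take_length])
    exact ⟨w, hw, e⟩
  · have hc := hSc y hy
    cases hq : qB 0 y <;> simp only [hq, cond_true, cond_false, Bool.or_eq_true, beq_iff_eq,
      List.any_eq_true] at hc ⊢
    · obtain ⟨w, hw, e⟩ := tree_orbit tS 5 sixTree27 (fun e he => hS e (Or.inl he)) h27 sixTree27.length le_rfl y (by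
        rw [List.take_length]
        rcases hc.resolve_left hy0 with h | ⟨e, he, h⟩
        · rw [h]; exact List.mem_cons_self
        · exact List.mem_cons_of_mem _ (List.mem_map.2 ⟨e, he, h⟩))
      exact ⟨w, hw, e⟩
    · obtain ⟨w, hw, e⟩ := tree_orbit tS 1 sixTree36 (fun e he => hS e (Or.inr he)) h36 sixTree36.length le_rfl y (by
        rw [List.take_length]
        rcases hc.resolve_left hy0 with h | ⟨e, he, h⟩
        · rw [h]; exact List.mem_cons_self
        · exact List.mem_cons_of_mem _ (List.mem_map.2 ⟨e, he, h⟩))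
      exact ⟨w, hw, e⟩

end Cfsg.Agent.Lib.U62Cent47
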