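import Cfsg.Agent.Lib.U62Cent47.Linear
import Cfsg.Agent.Lib.Unitary.Order

/-!
The coded modules as actions of the group, its order, and finite sets of words.

Owner: helper94.
-/

set_option autoImplicit false
set_option maxRecDepth 20000

namespace Cfsg.Agent.Lib.U62Cent47.Facts

open Cfsg.Agent.Lib.U62Cent47 Cfsg.Agent.Lib.G24 Cfsg.Agent.Lib.U62Recog47

/-- all letters of a word are points -/
def okB (w : List Nat) : Bool := w.all fun a => ptsL.contains a

theorem ok_of_okB {w : List Nat} (h : okB w = true) : ∀ a ∈ w, a ∈ ptsL := fun a ha =>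
  List.contains_iff_mem.1 (List.all_eq_true.1 h a ha)

theorem ok_append {v w : List Nat} (hv : ∀ a ∈ v, a ∈ ptsL) (hw : ∀ a ∈ w, a ∈ ptsL) :
    ∀ a ∈ v ++ w, a ∈ ptsL := fun a ha => (List.mem_append.1 ha).elim (hv a) (hw a)

theorem ok_reverse {w : List Nat} (hw : ∀ a ∈ w, a ∈ ptsL) : ∀ a ∈ w.reverse, a ∈ ptsL :=
  fun a ha => hw a (List.mem_reverse.1 ha)

theorem ok_nil : ∀ a ∈ ([] : List Nat), a ∈ ptsL := fun _ h => absurd h List.not_mem_nil

theorem wN_congr {v w : List Nat} (hv : ∀ a ∈ v, a ∈ ptsL) (hw : ∀ a ∈ w, a ∈ ptsL)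
    (h : wS v = wS w) {x : Nat} (hx : x < 256) : wN v x = wN w x :=
  vec_inj (wN_lt v hx) (wN_lt w hx) (by rw [← wS_vec hv, ← wS_vec hw, h])

theorem eqW_of_wS {v w : List Nat} (hv : ∀ a ∈ v, a ∈ ptsL) (hw : ∀ a ∈ w, a ∈ ptsL)
    (h : wS v = wS w) : eqW v w = true := by
  simp only [eqW, Bool.and_eq_true, List.all_eq_true, List.contains_iff_mem, beq_iff_eq]
  exact ⟨⟨hv, hw⟩, fun j hj => wN_congr hv hw h (pow_lt (List.mem_range.1 hj))⟩

theorem wS_reverse {w : List Nat} (hw : ∀ a ∈ w, a ∈ ptsL) : wS w.reverse = (wS w)⁻¹ := by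
  induction w with
  | nil => simp [wS_nil]
  | cons a w ih =>
    rw [List.reverse_cons, wS_append, wS_single, wS_cons, mul_inv_rev,
      ih fun b hb => hw b (List.mem_cons_of_mem _ hb),
      inv_eq_of_mul_eq_one_right (tC_sq (hw a List.mem_cons_self))]

/-- the totally isotropic line of a singular vector of the six-dimensional module -/
def lineTab : List (Nat × List Nat) :=
  [(5, [0, 20, 40, 60, 65, 85, 105, 125, 130, 150, 170, 190, 195, 215, 235, 255]), (6, [0, 24, 44,
  52, 66, 90, 110, 118, 131, 155, 175, 183, 193, 217, 237, 245]), (7, [0, 28, 36, 56, 67, 95, 103,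
  123, 129, 157, 165, 185, 194, 222, 230, 250]), (9, [0, 28, 36, 56, 66, 94, 102, 122, 131, 159,
  167, 187, 193, 221, 229, 249]), (10, [0, 20, 40, 60, 67, 87, 107, 127, 129, 149, 169, 189, 194,
  214, 234, 254]), (11, [0, 24, 44, 52, 65, 89, 109, 117, 130, 154, 174, 182, 195, 219, 239, 247]),
  (13, [0, 24, 44, 52, 67, 91, 111, 119, 129, 153, 173, 181, 194, 218, 238, 246]), (14, [0, 28, 36,
  56, 65, 93, 101, 121, 130, 158, 166, 186, 195, 223, 231, 251]), (15, [0, 20, 40, 60, 66, 86, 106,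
  126, 131, 151, 171, 191, 193, 213, 233, 253]), (17, [0, 17, 34, 51, 68, 85, 102, 119, 136, 153,
  170, 187, 204, 221, 238, 255]), (18, [0, 18, 35, 49, 72, 90, 107, 121, 140, 158, 175, 189, 196,
  214, 231, 245]), (19, [0, 19, 33, 50, 76, 95, 109, 126, 132, 151, 165, 182, 200, 219, 233, 250]),
  (20, [0, 5, 10, 15, 80, 85, 90, 95, 160, 165, 170, 175, 240, 245, 250, 255]), (24, [0, 6, 11, 13,
  96, 102, 107, 109, 176, 182, 187, 189, 208, 214, 219, 221]), (28, [0, 7, 9, 14, 112, 119, 121,
  126, 144, 151, 153, 158, 224, 231, 233, 238]), (33, [0, 18, 35, 49, 76, 94, 111, 125, 132, 150,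
  167, 181, 200, 218, 235, 249]), (34, [0, 19, 33, 50, 68, 87, 101, 118, 136, 155, 169, 186, 204,
  223, 237, 254]), (35, [0, 17, 34, 51, 72, 89, 106, 123, 140, 157, 174, 191, 196, 213, 230, 247]),
  (36, [0, 6, 11, 13, 112, 118, 123, 125, 144, 150, 155, 157, 224, 230, 235, 237]), (40, [0, 7, 9,
  14, 80, 87, 89, 94, 160, 167, 169, 174, 240, 247, 249, 254]), (44, [0, 5, 10, 15, 96, 101, 106,
  111, 176, 181, 186, 191, 208, 213, 218, 223]), (49, [0, 19, 33, 50, 72, 91, 105, 122, 140, 159,
  173, 190, 196, 215, 229, 246]), (50, [0, 17, 34, 51, 76, 93, 110, 127, 132, 149, 166, 183, 200,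
  217, 234, 251]), (51, [0, 18, 35, 49, 68, 86, 103, 117, 136, 154, 171, 185, 204, 222, 239, 253]),
  (52, [0, 7, 9, 14, 96, 103, 105, 110, 176, 183, 185, 190, 208, 215, 217, 222]), (56, [0, 5, 10,
  15, 112, 117, 122, 127, 144, 149, 154, 159, 224, 229, 234, 239]), (60, [0, 6, 11, 13, 80, 86, 91,
  93, 160, 166, 171, 173, 240, 246, 251, 253])]

/-- the codes on a line -/
def lineOf (y : Nat) : List Nat := ((lineTab.find? fun e => e.1 == y).map Prod.snd).getD []

theorem line_step_ok : ptsL.all (fun a => lineTab.all fun e =>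
    (lineTab.any fun f => f.1 == tS a e.1) &&
      e.2.all fun x => (lineOf (tS a e.1)).contains (tN a x)) = true := by decide +kernel

theorem line_small : lineTab.all (fun e => e.2.all (fun x => decide (x < 256)) &&
    lineOf e.1 == e.2) = true := by decide +kernel

theorem line_inj : lineTab.all (fun e => lineTab.all fun f =>
    e.1 == f.1 || !(e.2.all fun x => f.2.contains x)) = true := by decide +kernel

theorem tS_inv_ok : ptsL.all (fun a => (List.range 64).all fun y => tS a (tS a y) == y) = true ∧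
    ptsL.all (fun a => (List.range 256).all fun x => tN a (tN a x) == x) = true := by decide +kernel

theorem line_span : (List.range 6).all (fun j => lineTab.any fun e => lineTab.any fun f =>
    lineTab.any fun g => e.1 ^^^ f.1 ^^^ g.1 == 2 ^ j) = true := by decide +kernel

/-- a six-bit vector with a line -/
def Sing (y : Nat) : Prop := ∃ e ∈ lineTab, e.1 = y

theorem lineOf_lt {y x : Nat} (hy : Sing y) (hx : x ∈ lineOf y) : x < 256 := by
  obtain ⟨e, he, rfl⟩ := hy
  have h := List.all_eq_true.1 line_small e he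
  simp only [Bool.and_eq_true, List.all_eq_true, decide_eq_true_eq, beq_iff_eq] at h
  exact h.1 x (h.2 ▸ hx)

theorem line_word {w : List Nat} (hw : ∀ a ∈ w, a ∈ ptsL) {y : Nat} (hy : Sing y) :
    Sing (w6 w y) ∧ ∀ x ∈ lineOf y, wN w x ∈ lineOf (w6 w y) := by
  induction w with
  | nil => exact ⟨hy, fun x hx => hx⟩
  | cons a w ih =>
    obtain ⟨⟨e, he, e1⟩, h2⟩ := ih fun b hb => hw b (List.mem_cons_of_mem _ hb)
    have h := List.all_eq_true.1 (List.all_eq_true.1 line_step_ok a (hw a List.mem_cons_self)) e he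
    simp only [Bool.and_eq_true, List.any_eq_true, List.all_eq_true, List.contains_iff_mem,
      beq_iff_eq] at h
    obtain ⟨⟨f, hf, f1⟩, h'⟩ := h
    show Sing (tS a (w6 w y)) ∧ ∀ x ∈ lineOf y, tN a (wN w x) ∈ lineOf (tS a (w6 w y))
    rw [← e1]
    refine ⟨⟨f, hf, f1⟩, fun x hx => h' _ ?_⟩
    have hl := List.all_eq_true.1 line_small e he
    simp only [Bool.and_eq_true, beq_iff_eq] at hl
    rw [← hl.2, e1]
    exact h2 x hx

theorem w6_lt (w : List Nat) {y : Nat} (hy : y < 64) : w6 w y < 64 := by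
  induction w with
  | nil => exact hy
  | cons a w ih => exact tS_lt _ _

theorem w6_reverse {w : List Nat} (hw : ∀ a ∈ w, a ∈ ptsL) {y : Nat} (hy : y < 64) :
    w6 w.reverse (w6 w y) = y := by
  induction w with
  | nil => rfl
  | cons a w ih =>
    have ha := List.all_eq_true.1 (List.all_eq_true.1 tS_inv_ok.1 a (hw a List.mem_cons_self))
      (w6 w y) (List.mem_range.2 (w6_lt w hy))
    show List.foldr tS (tS a (w6 w y)) (a :: w).reverse = y
    rw [List.reverse_cons, List.foldr_append]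
    show List.foldr tS (tS a (tS a (w6 w y))) w.reverse = y
    rw [beq_iff_eq.1 ha]
    exact ih fun b hb => hw b (List.mem_cons_of_mem _ hb)

theorem wN_reverse {w : List Nat} (hw : ∀ a ∈ w, a ∈ ptsL) {x : Nat} (hx : x < 256) :
    wN w (wN w.reverse x) = x := by
  induction w generalizing x with
  | nil => rfl
  | cons a w ih =>
    rw [List.reverse_cons, wN_append]
    show tN a (wN w (wN w.reverse (tN a x))) = x
    rw [ih (fun b hb => hw b (List.mem_cons_of_mem _ hb)) (tN_lt a hx)]
    exact beq_iff_eq.1 (List.all_eq_true.1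
      (List.all_eq_true.1 tS_inv_ok.2 a (hw a List.mem_cons_self)) x (List.mem_range.2 hx))

theorem sing_lt {y : Nat} (hy : Sing y) : y < 64 := by
  obtain ⟨e, he, rfl⟩ := hy
  revert e
  decide +kernel

theorem w6_sing {v w : List Nat} (hv : ∀ a ∈ v, a ∈ ptsL) (hw : ∀ a ∈ w, a ∈ ptsL)
    (h : wS v = wS w) {y : Nat} (hy : Sing y) : w6 v y = w6 w y := by
  obtain ⟨hv1, -⟩ := line_word hv hy
  obtain ⟨hw1, hw2⟩ := line_word hw hy
  obtain ⟨e, he, e1⟩ := hv1
  obtain ⟨f, hf, f1⟩ := hw1
  have hsub : ∀ z ∈ lineOf (w6 v y), z ∈ lineOf (w6 w y) := by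
    intro z hz
    have hz' := lineOf_lt ⟨e, he, e1⟩ hz
    have h2 := (line_word (ok_reverse hv) ⟨e, he, e1⟩).2 z hz
    rw [w6_reverse hv (sing_lt hy)] at h2
    have h3 := hw2 _ h2
    rwa [← wN_congr hv hw h (wN_lt _ hz'), wN_reverse hv hz'] at h3
  have hle := List.all_eq_true.1 line_small e he
  have hlf := List.all_eq_true.1 line_small f hf
  simp only [Bool.and_eq_true, beq_iff_eq] at hle hlf
  have hi := List.all_eq_true.1 (List.all_eq_true.1 line_inj e he) f hf
  simp only [Bool.or_eq_true, beq_iff_eq, Bool.not_eq_true', ← Bool.not_eq_true,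
    List.all_eq_true, List.contains_iff_mem] at hi
  rcases hi with hi | hi
  · rw [← e1, ← f1, hi]
  · exact absurd (fun x hx => by rw [← hlf.2, f1]; exact hsub x (by rw [← e1, hle.2]; exact hx)) hi

theorem w6_xor (w : List Nat) (x y : Nat) : w6 w (x ^^^ y) = w6 w x ^^^ w6 w y := by
  induction w with
  | nil => rfl
  | cons a w ih => show tS a (w6 w (x ^^^ y)) = _; rw [ih, tS_xor]; rfl

theorem wM_six {m : Nat} (hm : (m == 2) = false) (w : List Nat) {n : Nat} (hn : n < 256) :
    wM m w n = w6 w (n &&& 63) ||| (n &&& 192) := by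
  induction w with
  | nil =>
    have : ∀ k < 256, k = (k &&& 63) ||| (k &&& 192) := by decide +kernel
    exact this n hn
  | cons a w ih =>
    have hsplit : ∀ s < 64, ∀ k < 4, (s ||| k * 64) &&& 63 = s ∧ (s ||| k * 64) &&& 192 = k * 64 := by
      decide +kernel
    have hk : ∀ k < 256, ∃ j < 4, k &&& 192 = j * 64 := by decide +kernel
    obtain ⟨j, hj, hj'⟩ := hk n hn
    show aM m a (wM m w n) = tS a (w6 w (n &&& 63)) ||| (n &&& 192)
    obtain ⟨h1, h2⟩ := hsplit _ (w6_lt w (Nat.lt_succ_of_le Nat.and_le_right : n &&& 63 < 64)) j hj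
    rw [ih, aM, hm, Bool.cond_false, hj', h1, h2]

theorem wM_congr (m : Nat) {v w : List Nat} (hv : ∀ a ∈ v, a ∈ ptsL) (hw : ∀ a ∈ w, a ∈ ptsL)
    (h : wS v = wS w) : ∀ n < 256, wM m v n = wM m w n := by
  intro n hn
  cases hm : m == 2
  · refine wM_ext m v w (fun j hj => ?_) n hn
    rw [wM_six hm v (pow_lt hj), wM_six hm w (pow_lt hj)]
    have hcase : (2 ^ j) &&& 63 = 0 ∨ ∃ i < 6, (2 ^ j) &&& 63 = 2 ^ i := by
      interval_cases j <;> decide
    rcases hcase with e | ⟨i, hi, e⟩
    · rw [e]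
      have hz : ∀ u, w6 u 0 = 0 := fun u => by
        have h := w6_xor u 0 0; rwa [Nat.xor_self, Nat.xor_self] at h
      rw [hz, hz]
    · rw [e]
      have hs := List.all_eq_true.1 line_span i (List.mem_range.2 hi)
      simp only [List.any_eq_true, beq_iff_eq] at hs
      obtain ⟨a, ha, b, hb, c, hc, e'⟩ := hs
      rw [← e', w6_xor, w6_xor, w6_xor, w6_xor, w6_sing hv hw h ⟨a, ha, rfl⟩,
        w6_sing hv hw h ⟨b, hb, rfl⟩, w6_sing hv hw h ⟨c, hc, rfl⟩]
  · rw [beq_iff_eq.1 hm]; exact wN_congr hv hw h hn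

/-- a word of an element -/
noncomputable def wd (A : SU4) : List Nat := (exists_word A).choose

theorem wd_ok (A : SU4) : ∀ a ∈ wd A, a ∈ ptsL := fun a ha =>
  gen_pts a ((exists_word A).choose_spec.1 a ha)

theorem wS_wd (A : SU4) : wS (wd A) = A := (exists_word A).choose_spec.2

/-- an element in model `m` -/
noncomputable def act (m : Nat) (A : SU4) (n : Nat) : Nat := wM m (wd A) n

theorem act_word (m : Nat) {w : List Nat} (hw : ∀ a ∈ w, a ∈ ptsL) {n : Nat} (hn : n < 256) :
    act m (wS w) n = wM m w n :=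
  wM_congr m (wd_ok _) hw (wS_wd _) n hn

theorem act_lt (m : Nat) (A : SU4) {n : Nat} (hn : n < 256) : act m A n < 256 := wM_lt m _ hn

theorem act_mul (m : Nat) (A B : SU4) {n : Nat} (hn : n < 256) :
    act m (A * B) n = act m A (act m B n) := by
  have h : wS (wd A ++ wd B) = A * B := by rw [wS_append, wS_wd, wS_wd]
  rw [← h, act_word m (ok_append (wd_ok A) (wd_ok B)) hn, wM_append]
  rfl

theorem act_one (m : Nat) {n : Nat} (hn : n < 256) : act m 1 n = n := by
  rw [← wS_nil, act_word m ok_nil hn]; rfl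

theorem act_xor (m : Nat) (A : SU4) {x y : Nat} (hx : x < 256) (hy : y < 256) :
    act m A (x ^^^ y) = act m A x ^^^ act m A y := wM_xor m _ hx hy

theorem act_inv_left (m : Nat) (A : SU4) {n : Nat} (hn : n < 256) : act m A⁻¹ (act m A n) = n := by
  rw [← act_mul m _ _ hn, inv_mul_cancel, act_one m hn]

theorem act_inv_right (m : Nat) (A : SU4) {n : Nat} (hn : n < 256) : act m A (act m A⁻¹ n) = n := by
  rw [← act_mul m _ _ hn, mul_inv_cancel, act_one m hn]

theorem act_two_vec (A : SU4) {n : Nat} : Matrix.mulVec (matOf A) (vec n) = vec (act 2 A n) := by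
  conv_lhs => rw [← wS_wd A]
  exact wS_vec (wd_ok A) n

theorem ext_act {A B : SU4} (h : ∀ j < 8, act 2 A (2 ^ j) = act 2 B (2 ^ j)) : A = B := by
  rw [← wS_wd A, ← wS_wd B]
  exact wS_ext (wd_ok A) (wd_ok B) fun x hx => wM_ext 2 _ _ h x hx

theorem qB_step_ok : (List.range 3).all (fun m => ptsL.all fun a => (List.range 256).all fun n =>
    qB m (aM m a n) == qB m n) = true := by decide +kernel

theorem qB_act {m : Nat} (hm : m < 3) (A : SU4) {n : Nat} (hn : n < 256) :
    qB m (act m A n) = qB m n := by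
  unfold act
  have hok := wd_ok A
  revert hok
  induction wd A with
  | nil => exact fun _ => rfl
  | cons a w ih =>
    intro hok
    show qB m (aM m a (wM m w n)) = _
    rw [beq_iff_eq.1 (List.all_eq_true.1 (List.all_eq_true.1 (List.all_eq_true.1 qB_step_ok m
      (List.mem_range.2 hm)) a (hok a List.mem_cons_self)) _ (List.mem_range.2 (wM_lt m w hn)))]
    exact ih fun b hb => hok b (List.mem_cons_of_mem _ hb)

theorem bB_act {m : Nat} (hm : m < 3) (A : SU4) {x y : Nat} (hx : x < 256) (hy : y < 256) :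
    bB m (act m A x) (act m A y) = bB m x y := by
  unfold bB
  rw [← act_xor m A hx hy, qB_act hm A (xor_lt8 hx hy), qB_act hm A hx, qB_act hm A hy]

/-- the number of fixed codes -/
noncomputable def fixC (m : Nat) (A : SU4) : Nat :=
  ((List.range 256).filter fun n => act m A n == n).length

theorem filter_length (p : Nat → Bool) :
    ((List.range 256).filter p).length = ((Finset.range 256).filter fun n => p n = true).card := by
  rw [← List.toFinset_card_of_nodup ((List.nodup_range).filter p)]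
  congr 1
  ext n
  simp

theorem fixC_word (m : Nat) {w : List Nat} (hw : ∀ a ∈ w, a ∈ ptsL) :
    fixC m (wS w) = ((List.range 256).filter fun n => wM m w n == n).length := by
  unfold fixC
  congr 1
  exact List.filter_congr fun n hn => by rw [act_word m hw (List.mem_range.1 hn)]

theorem fixC_conj (m : Nat) (g A : SU4) : fixC m (g * A * g⁻¹) = fixC m A := by
  rw [fixC, fixC, filter_length, filter_length]
  refine Finset.card_bij' (fun n _ => act m g⁻¹ n) (fun n _ => act m g n) ?_ ?_ ?_ ?_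
  all_goals intro n hn
  all_goals simp only [Finset.mem_filter, Finset.mem_range, beq_iff_eq] at hn ⊢
  · refine ⟨act_lt m _ hn.1, ?_⟩
    have h := hn.2
    rw [act_mul m _ _ hn.1, act_mul m _ _ (act_lt m _ hn.1)] at h
    conv_rhs => rw [← h, act_inv_left m _ (act_lt m _ (act_lt m _ hn.1))]
  · refine ⟨act_lt m _ hn.1, ?_⟩
    rw [act_mul m _ _ (act_lt m _ hn.1), act_inv_left m _ hn.1, act_mul m _ _ hn.1, hn.2]
  · exact act_inv_right m _ hn.1
  · exact act_inv_left m _ hn.1

theorem card_SU4 : Nat.card SU4 = 25920 := by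
  have hGU := Unitary.card_GU (F := K4) (q := 2) hF 4
  have h := Unitary.card_SU (n := 4) (F := K4) (q := 2) hF (by norm_num)
  rw [hGU] at h
  norm_num [Finset.prod_range_succ, Nat.even_iff] at h
  exact Nat.eq_of_mul_eq_mul_left (by norm_num : 0 < 3) (by omega)

end Cfsg.Agent.Lib.U62Cent47.Facts
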