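import Cfsg.Agent.Lib.U62Cent47.Facts.Invol
import Cfsg.Agent.S0280

/-!
Fixed codes of involutions, products of transvections, elements of order five.

Owner: helper47.
-/

set_option autoImplicit false
set_option maxRecDepth 20000

namespace Cfsg.Agent.Lib.U62Cent47

open Cfsg.Agent.Lib.U62Recog47 (vec h4 hN)

theorem five_pts : (5 : Nat) ∈ ptsL ∧ 80 ∈ ptsL := by decide +kernel

theorem w0_ok : OkW [5, 80] := okW_pair five_pts.1 five_pts.2

/-- conjugate elements fix equally many codes -/
theorem fix_count_conj {m : Nat} (hm : m < 3) {v w w' : List Nat} (hv : OkW v) (hw : OkW w) (hw' : OkW w')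
    (e : wS v * wS w * (wS v)⁻¹ = wS w') :
    ((List.range 256).filter fun n => wM m w n == n).length =
      ((List.range 256).filter fun n => wM m w' n == n).length := by
  have hS : ∀ n < 256, wM m w' (wM m v n) = wM m v (wM m w n) := fun n hn => by
    rw [← wM_append, ← wM_append]
    exact wM_congr (hw'.append hv) (hv.append hw) (by
      rw [wS_append, wS_append, ← e, inv_mul_cancel_right]) hm hn
  rw [← List.toFinset_card_of_nodup (List.nodup_range.filter _),
    ← List.toFinset_card_of_nodup (List.nodup_range.filter _)]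
  refine Finset.card_bij' (fun n _ => wM m v n) (fun n _ => wM m v.reverse n) ?_ ?_ ?_ ?_
  · intro n hn
    simp only [List.mem_toFinset, List.mem_filter, List.mem_range, beq_iff_eq] at hn ⊢
    exact ⟨wM_lt m v hn.1, by rw [hS n hn.1, hn.2]⟩
  · intro n hn
    simp only [List.mem_toFinset, List.mem_filter, List.mem_range, beq_iff_eq] at hn ⊢
    obtain ⟨h1, h2⟩ := hn
    refine ⟨wM_lt m _ h1, ?_⟩
    have h3 := wM_lt m v.reverse h1
    have hv' : wM m v (wM m v.reverse n) = n := by
      have := wM_reverse (OkW.reverse hv) hm h1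
      rwa [List.reverse_reverse] at this
    have h4 := hS _ h3
    rw [hv', h2] at h4
    rw [← wM_reverse hv hm (wM_lt m w h3), ← h4]
  · intro n hn
    simp only [List.mem_toFinset, List.mem_filter, List.mem_range] at hn
    exact wM_reverse hv hm hn.1
  · intro n hn
    simp only [List.mem_toFinset, List.mem_filter, List.mem_range] at hn
    have := wM_reverse (OkW.reverse hv) hm hn.1
    rwa [List.reverse_reverse] at this

theorem count_ok : (List.range 3).all (fun m =>
    ((List.range 256).filter fun n => wM m [5] n == n).length == 64 &&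
    ((List.range 256).filter fun n => wM m [5, 80] n == n).length == bif m == 2 then 16 else 64) = true := by
  decide +kernel

/-- the number of fixed codes of an involution -/
theorem count_invol {w : List Nat} (hw : OkW w) (h : wS w * wS w = 1) (hne : wS w ≠ 1) {m : Nat} (hm : m < 3) :
    ((∃ a ∈ ptsL, wS w = tC a) ∧ ((List.range 256).filter fun n => wM m w n == n).length = 64) ∨
    ((∃ v, OkW v ∧ wS v * wS w * (wS v)⁻¹ = wS [5, 80]) ∧
      ((List.range 256).filter fun n => wM m w n == n).length = if m = 2 then 16 else 64) := by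
  have hc := List.all_eq_true.1 count_ok m (List.mem_range.2 hm)
  simp only [Bool.and_eq_true, beq_iff_eq] at hc
  rcases invol_cases h hne with ⟨a, ha, e⟩ | ⟨a, ha, b, hb, hab, h0, e⟩
  · obtain ⟨v, hv, e'⟩ := pt_conj a ha
    refine Or.inl ⟨⟨a, ha, e⟩, ?_⟩
    rw [← hc.1]
    exact (fix_count_conj hm hv (OkW.single five_pts.1) hw (by rw [wS_single, e, e'])).symm
  · obtain ⟨v, hv, e'⟩ := pair_conj ha hb hab h0
    have e2 : wS v * wS w * (wS v)⁻¹ = wS [5, 80] := by rw [e, wS_pair, e']
    refine Or.inr ⟨⟨v, hv, e2⟩, ?_⟩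
    rw [fix_count_conj hm hv hw w0_ok e2, hc.2]
    by_cases h2 : m = 2
    · subst h2; rfl
    · rw [show (m == 2) = false from beq_eq_false_iff_ne.2 h2, if_neg h2]; rfl

def imgL : List Nat := [0, 1, 2, 3, 16, 17, 18, 19, 32, 33, 34, 35, 48, 49, 50, 51]

theorem imgL_lt : ∀ k ∈ imgL, k < 256 := by decide +kernel

theorem plane_ok : (List.range 256).all (fun n =>
    (wN [5, 80] (wN [5, 80] n ^^^ n) == wN [5, 80] n ^^^ n) &&
    (wN [5, 80] n != n || (imgL.any fun k => wN [5, 80] k ^^^ k == n) &&
      !qB 2 n)) = true := by decide +kernel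

theorem hN_wN {v : List Nat} (hv : OkW v) (x y : Nat) : hN (wN v x) (wN v y) = hN x y := by
  have h : U62Recog47.dec (hN (wN v x) (wN v y)) = U62Recog47.dec (hN x y) := by
    rw [← U62Recog47.h4_vec, ← U62Recog47.h4_vec, ← wS_vec hv, ← wS_vec hv, h4_map]
  have hd : ∀ a < 4, ∀ b < 4, U62Recog47.dec a = U62Recog47.dec b → a = b := by decide
  exact hd _ (U62Recog47.hN_lt _ _) _ (U62Recog47.hN_lt _ _) h

theorem qB_wN {v : List Nat} (hv : OkW v) (x : Nat) : qB 2 (wN v x) = qB 2 x := by
  simp only [qB, beq_self_eq_true, cond_true, hN_wN hv]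

theorem invProp : InvProp := by
  intro w hw h hne
  rcases count_invol hw h hne (show 2 < 3 by norm_num) with ⟨ha, -⟩ | ⟨⟨v, hv, e⟩, hcnt⟩
  · exact Or.inl ha
  refine Or.inr ?_
  simp only [if_true, wM_two] at hcnt
  have hP := List.all_eq_true.1 plane_ok
  have tr : ∀ n < 256, wN [5, 80] (wN v n) = wN v (wN w n) := fun n hn => by
    rw [← wN_append, ← wN_append]
    exact wN_congr (w0_ok.append hv) (hv.append hw) (by
      rw [wS_append, wS_append, ← e, inv_mul_cancel_right]) hn
  have back : ∀ n < 256, wN v.reverse (wN v n) = n := fun n hn => wN_reverse hv hn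
  have inj : ∀ x < 256, ∀ y < 256, wN v x = wN v y → x = y := fun x hx y hy h => by
    rw [← back x hx, h, back y hy]
  have vx : ∀ x < 256, ∀ y < 256, wN v (x ^^^ y) = wN v x ^^^ wN v y := fun x hx y hy => by
    rw [← wM_two, wM_xor 2 v hx hy]; rfl
  have img : ∀ k < 256, wN v (wN w k ^^^ k) = wN [5, 80] (wN v k) ^^^ wN v k := fun k hk => by
    rw [vx _ (wN_lt w hk) _ hk, tr k hk]
  have sing : ∀ x < 256, wN w x = x → qB 2 x = false := fun x hx hfx => by
    have h := hP _ (List.mem_range.2 (wN_lt v hx))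
    rw [tr x hx, hfx] at h
    simp only [Bool.and_eq_true, Bool.or_eq_true, bne_iff_ne, ne_eq, not_true_eq_false, false_or,
      Bool.not_eq_true'] at h
    rw [← qB_wN hv]; exact h.2.2
  refine ⟨hcnt, fun n hn hf => ?_, fun k hk => ?_, fun x hx y hy hfx hfy => ⟨?_, sing x hx hfx⟩⟩
  · have h := hP _ (List.mem_range.2 (wN_lt v hn))
    rw [tr n hn, hf] at h
    simp only [Bool.and_eq_true, Bool.or_eq_true, bne_iff_ne, ne_eq, not_true_eq_false, false_or,
      List.any_eq_true, beq_iff_eq] at h
    obtain ⟨k, hk, hkn⟩ := h.2.1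
    have hk256 : k < 256 := imgL_lt k hk
    have hk' := wN_lt v.reverse hk256
    refine ⟨wN v.reverse k, hk', inj _ (xor_lt8 (wN_lt w hk') hk') _ hn ?_⟩
    have hb : wN v (wN v.reverse k) = k := by
      have := wN_reverse (OkW.reverse hv) hk256
      rwa [List.reverse_reverse] at this
    rw [img _ hk', hb, hkn]
  · have hd := xor_lt8 (wN_lt w hk) hk
    refine inj _ (wN_lt w hd) _ hd ?_
    have h := hP _ (List.mem_range.2 (wN_lt v hk))
    simp only [Bool.and_eq_true, beq_iff_eq] at h
    rw [← tr _ hd, img k hk, h.1]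
  · simp only [bB, sing x hx hfx, sing y hy hfy, sing _ (xor_lt8 hx hy) (by
      rw [← wM_two, wM_xor 2 w hx hy, wM_two, wM_two, hfx, hfy]), Bool.xor_false]

theorem fix_le : ∀ w, OkW w → wS w * wS w = 1 → wS w ≠ 1 → ∀ m < 3,
    ((List.range 256).filter fun n => wM m w n == n).length ≤ 64 ∧
      (m < 2 → ((List.range 256).filter fun n => wM m w n == n).length = 64) := by
  intro w hw h hne m hm
  rcases count_invol hw h hne hm with ⟨-, e⟩ | ⟨-, e⟩ <;> rw [e]
  · exact ⟨le_rfl, fun _ => rfl⟩
  · by_cases h2 : m = 2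
    · rw [if_pos h2]; exact ⟨by norm_num, fun h => absurd h (by omega)⟩
    · rw [if_neg h2]; exact ⟨le_rfl, fun _ => rfl⟩

theorem tvProdProp : TvProdProp := by
  intro a ha b hb c hc hcomm e
  by_cases hab : a = b
  · subst hab
    rw [tC_sq ha] at e
    have := Over_ne_one hc
    exact this e.symm
  have h0 := (tv_comm_iff ha hb).1 hcomm
  obtain ⟨v, hv, e1⟩ := pair_conj ha hb hab h0
  obtain ⟨u, hu, e2⟩ := pt_conj c hc
  have h1 := fix_count_conj (show 2 < 3 by norm_num) hv (okW_pair ha hb) w0_ok (by rw [wS_pair, wS_pair, e1])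
  have h2 := fix_count_conj (show 2 < 3 by norm_num) hu (OkW.single five_pts.1) (okW_pair ha hb)
    (by rw [wS_single, wS_pair, e, e2])
  have hcnt := List.all_eq_true.1 count_ok 2 (List.mem_range.2 (by norm_num))
  simp only [Bool.and_eq_true, beq_iff_eq] at hcnt
  rw [h1, hcnt.1, hcnt.2] at h2
  exact absurd h2 (by norm_num)
where
  Over_ne_one {c : Nat} (hc : c ∈ ptsL) : tC c ≠ 1 := fun e => by
    obtain ⟨n, hn, hn0⟩ := (line_facts hc).2.2.2.2
    obtain ⟨k, hk, rfl⟩ := (line_facts hc).2.2.1 n hn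
    apply hn0
    rw [← wM_two_single, wM_two, wN_congr (OkW.single hc) OkW.nil (by rw [wS_single, e, wS_nil]) hk,
      show wN [] k = k from rfl, Nat.xor_self]

theorem five_comm_ok :
    (ptsL.all fun a => !eqW ([a] ++ g5W) (g5W ++ [a]) &&
      ptsL.all fun b => a == b || hN a b != 0 || !eqW ([a, b] ++ g5W) (g5W ++ [a, b])) = true := by
  decide +kernel

theorem fiveProp : FiveProp := by
  intro A B hA hB hAB
  have h := g5W_ok_five
  obtain ⟨hg, hgo⟩ := h
  have : Fact (Nat.Prime 5) := ⟨by norm_num⟩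
  -- conjugate the element of order five into the subgroup generated by g5W
  have hP : IsPGroup 5 (Subgroup.zpowers B) := IsPGroup.of_card (n := 1) (by rw [Nat.card_zpowers, hB, pow_one])
  have hQ : IsPGroup 5 (Subgroup.zpowers (wS g5W)) :=
    IsPGroup.of_card (n := 1) (by rw [Nat.card_zpowers, hgo, pow_one])
  obtain ⟨P, hPle⟩ := hP.exists_le_sylow
  obtain ⟨Q, hQle⟩ := hQ.exists_le_sylow
  have hcard : ∀ R : Sylow 5 SU4, Nat.card (R : Subgroup SU4) = 5 := fun R => by
    rw [Sylow.card_eq_multiplicity, Nat.card_congr psuEquiv.toEquiv, card_psu_four', show (25920 : ℕ) = 5 * 5184 by norm_num,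
      Nat.factorization_mul (by norm_num) (by norm_num), Finsupp.add_apply, Nat.Prime.factorization_self (by norm_num),
      Nat.factorization_eq_zero_of_not_dvd (by norm_num)]
    norm_num
  have eP : Subgroup.zpowers B = P := Subgroup.eq_of_le_of_card_ge hPle (by rw [hcard, Nat.card_zpowers, hB])
  have eQ : Subgroup.zpowers (wS g5W) = Q := Subgroup.eq_of_le_of_card_ge hQle (by rw [hcard, Nat.card_zpowers, hgo])
  obtain ⟨x, hx⟩ := MulAction.exists_smul_eq SU4 P Q
  have hmem : wS g5W ∈ (Subgroup.zpowers B).map (MulAut.conj x).toMonoidHom := by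
    have : (Q : Subgroup SU4) = (P : Subgroup SU4).map (MulAut.conj x).toMonoidHom := by
      rw [← hx]; rfl
    rw [eP, ← this, ← eQ]
    exact Subgroup.mem_zpowers _
  obtain ⟨y, ⟨k, rfl⟩, hy⟩ := hmem
  set A' := x * A * x⁻¹ with hA'
  have hc : Commute A' (wS g5W) := by
    rw [← hy, hA']
    exact (hAB.zpow_right k).map (MulAut.conj x)
  have hA2 : A' * A' = 1 := by
    have hA22 : A * A = 1 := by
      have := pow_orderOf_eq_one A
      rwa [hA, pow_two] at this
    rw [hA', show x * A * x⁻¹ * (x * A * x⁻¹) = x * (A * A) * x⁻¹ by group, hA22]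
    group
  have hA1 : A' ≠ 1 := fun e => by
    have : A = 1 := by
      rw [show A = x⁻¹ * (x * A * x⁻¹) * x by group, ← hA', e]; group
    rw [this, orderOf_one] at hA; exact absurd hA (by norm_num)
  have kill : ∀ w, OkW w → wS w = A' → eqW (w ++ g5W) (g5W ++ w) = true := fun w hw e => by
    simp only [eqW, Bool.and_eq_true, List.all_eq_true, List.contains_iff_mem, beq_iff_eq]
    exact ⟨⟨hw.append hg, hg.append hw⟩, fun j hj => wN_congr (hw.append hg) (hg.append hw)
      (by rw [wS_append, wS_append, e]; exact hc.eq) (pow_lt (List.mem_range.1 hj))⟩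
  rcases invol_cases hA2 hA1 with ⟨a, ha, e⟩ | ⟨a, ha, b, hb, hab, h0, e⟩
  · have h := List.all_eq_true.1 five_comm_ok a ha
    rw [Bool.and_eq_true, kill [a] (OkW.single ha) (by rw [wS_single, e])] at h
    exact Bool.noConfusion h.1
  · have h := List.all_eq_true.1 five_comm_ok a ha
    simp only [Bool.and_eq_true, List.all_eq_true, Bool.or_eq_true, beq_iff_eq, bne_iff_ne] at h
    have h2 := (h.2 b hb).resolve_left (by rintro (e' | e') <;> contradiction)
    rw [kill [a, b] (okW_pair ha hb) (by rw [wS_pair, e])] at h2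
    exact Bool.noConfusion h2
where
  card_psu_four' : Nat.card (Cfsg.PSU 4 G24.K4 2) = 25920 := by
    have h := Cfsg.Agent.S0280.result (F := G24.K4) (q := 2) (by rw [G24.K4.card_eq]; rfl) 4 (by omega)
    norm_num [Finset.prod_range_succ] at h
    omega
  g5W_ok_five : OkW g5W ∧ orderOf (wS g5W) = 5 := by
    have hok : (eqW (g5W ++ g5W ++ g5W ++ g5W ++ g5W) [] && !eqW g5W [] &&
        g5W.all fun a => ptsL.contains a) = true := by decide +kernel
    simp only [Bool.and_eq_true, Bool.not_eq_true', List.all_eq_true, List.contains_iff_mem] at hok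
    exact ⟨hok.2, five_order hok.1.1 hok.1.2 hok.2⟩

end Cfsg.Agent.Lib.U62Cent47
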