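import Cfsg.Agent.Lib.U62Cent47.Pairs
import Cfsg.Agent.Lib.U62Cent47.Facts.Action

/-!
An involution of SU(4, 2) is a transvection or the product of two at orthogonal points; the second
kind is one class.

Owner: helper47.
-/

set_option autoImplicit false
set_option maxRecDepth 20000

namespace Cfsg.Agent.Lib.U62Cent47

open Cfsg.Agent.Lib.U62Recog47 (V4 h4 h4_add_left h4_add_right h4_smul_left h4_smul_right h4_swap
  h4_zero_right h4_zero_left k4_two vadd_self)
open Cfsg.Agent.Lib.G24 (K4)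

/-- `A - 1` -/
def dA (A : SU4) : V4 →ₗ[K4] V4 := Matrix.mulVecLin (matOf A) + LinearMap.id

theorem dA_apply (A : SU4) (x : V4) : dA A x = Matrix.mulVec (matOf A) x + x := rfl

theorem k4_trace : ∀ t : K4, t + t * t = 0 → t = 0 ∨ t = 1 := by decide

theorem k4_real' : ∀ t : K4, t = t * t → t ≠ 0 → t = 1 := by decide

theorem mul_vec_mul (A B : SU4) (x : V4) :
    Matrix.mulVec (matOf (A * B)) x = Matrix.mulVec (matOf A) (Matrix.mulVec (matOf B) x) := by
  show Matrix.mulVec (A.1.1 * B.1.1) x = _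
  rw [← Matrix.mulVec_mulVec]

theorem eq_one_of_dA {A : SU4} (h : dA A = 0) : A = 1 := by
  refine ext_vec fun x _ => ?_
  have e : dA A (U62Recog47.vec x) = 0 := by rw [h]; rfl
  rw [dA_apply, add_eq_zero_iff_eq_neg] at e
  have neg : -(U62Recog47.vec x) = U62Recog47.vec x := neg_eq_of_add_eq_zero_left (vadd_self _)
  rw [e, neg]
  exact (Matrix.one_mulVec _).symm

section step

variable {A : SU4} (hA : A * A = 1)

include hA

theorem mul_vec_sq (x : V4) : Matrix.mulVec (matOf A) (Matrix.mulVec (matOf A) x) = x := by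
  rw [← mul_vec_mul, hA]
  exact Matrix.one_mulVec x

theorem dA_sq (x : V4) : dA A (dA A x) = 0 := by
  rw [dA_apply, dA_apply, Matrix.mulVec_add, mul_vec_sq hA, add_comm x, vadd_self]

theorem dA_adj (x y : V4) : h4 (dA A x) y = h4 x (dA A y) := by
  rw [dA_apply, dA_apply, h4_add_left, h4_add_right]
  congr 1
  conv_lhs => rw [← mul_vec_sq hA y]
  rw [h4_map]

theorem rank_le : Module.finrank K4 (LinearMap.range (dA A)) ≤ 2 := by
  have h1 := (dA A).finrank_range_add_finrank_ker
  have h2 : LinearMap.range (dA A) ≤ LinearMap.ker (dA A) := by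
    rintro _ ⟨x, rfl⟩
    exact LinearMap.mem_ker.2 (dA_sq hA x)
  have h3 := Submodule.finrank_mono h2
  rw [Module.finrank_fin_fun] at h1
  omega

/-- multiplying by a transvection lowers the rank -/
theorem exists_step (hne : A ≠ 1) : ∃ a ∈ ptsL, A * tC a * (A * tC a) = 1 ∧ Commute A (tC a) ∧
    Module.finrank K4 (LinearMap.range (dA (A * tC a))) < Module.finrank K4 (LinearMap.range (dA A)) := by
  obtain ⟨x, hx⟩ : ∃ x, h4 x (dA A x) ≠ 0 := by
    by_contra hcon
    push Not at hcon
    refine hne (eq_one_of_dA (LinearMap.ext fun y => ?_))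
    have h01 : ∀ x y : V4, h4 x (dA A y) = 0 ∨ h4 x (dA A y) = 1 := fun x y => by
      refine k4_trace _ ?_
      have h := hcon (x + y)
      rw [map_add, h4_add_left, h4_add_right, h4_add_right, hcon x, hcon y, zero_add, add_zero] at h
      rwa [← dA_adj hA y x, h4_swap x (dA A y)] at h
    have h0 : ∀ x, h4 x (dA A y) = 0 := fun x => by
      rcases h01 x y with h | h
      · exact h
      · exfalso
        rcases h01 (K4.w • x) y with h' | h' <;> rw [h4_smul_left, h] at h' <;> revert h' <;> decide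
    funext k
    have h := h0 (Pi.single k 1)
    revert h
    generalize dA A y = v
    intro h
    have e : h4 (Pi.single k 1) v = v k * v k := by
      fin_cases k <;> simp [h4]
    rw [e] at h
    exact mul_self_eq_zero.1 h
  set p := dA A x with hp
  have hxp : h4 x p = 1 := k4_real' _ (by
    conv_lhs => rw [hp, ← dA_adj hA x x, h4_swap x (dA A x)]) hx
  have hpp : h4 p p = 0 := by rw [hp, dA_adj hA, dA_sq hA, h4_zero_right]
  have hp0 : p ≠ 0 := fun e => hx (by rw [e, h4_zero_right])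
  obtain ⟨a, ha, e⟩ := exists_pt_tv hp0 hpp
  have hAp : Matrix.mulVec (matOf A) p = p := by
    have := dA_sq hA x
    rw [← hp, dA_apply, add_eq_zero_iff_eq_neg, neg_eq_of_add_eq_zero_left (vadd_self p)] at this
    exact this
  have hB : ∀ y, Matrix.mulVec (matOf (A * tC a)) y = Matrix.mulVec (matOf A) y + h4 y p • p := fun y => by
    rw [mul_vec_mul, ← e, tv_mulVec, Matrix.mulVec_add, Matrix.mulVec_smul, hAp]
  have hc : Commute A (tC a) := by
    refine ext_vec fun n _ => ?_
    rw [hB, mul_vec_mul, ← e, tv_mulVec]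
    congr 2
    conv_lhs => rw [← h4_map A, hAp]
  refine ⟨a, ha, ?_, hc, ?_⟩
  · rw [hc.eq, mul_assoc, ← mul_assoc A, ← hc.eq.symm, mul_assoc (tC a) A A, hA, mul_one, tC_sq ha]
  have hlt : LinearMap.ker (dA A) < LinearMap.ker (dA (A * tC a)) := by
    refine SetLike.lt_iff_le_and_exists.2 ⟨fun y hy => ?_, x, ?_, ?_⟩
    · rw [LinearMap.mem_ker] at hy ⊢
      rw [dA_apply, hB, add_right_comm, ← dA_apply, hy, zero_add, hp, ← dA_adj hA, hy, h4_zero_left, zero_smul]
    · rw [LinearMap.mem_ker, dA_apply, hB, add_right_comm, ← dA_apply, ← hp, hxp, one_smul, vadd_self]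
    · rw [LinearMap.mem_ker]; exact hp0
  have h1 := (dA A).finrank_range_add_finrank_ker
  have h2 := (dA (A * tC a)).finrank_range_add_finrank_ker
  have h3 := Submodule.finrank_lt_finrank_of_lt hlt
  omega

end step

theorem rank_zero {A : SU4} (h : Module.finrank K4 (LinearMap.range (dA A)) = 0) : A = 1 := by
  refine eq_one_of_dA (LinearMap.range_eq_bot.1 ?_)
  exact Submodule.finrank_eq_zero.1 h

/-- An involution is a transvection or the product of two at different orthogonal points. -/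
theorem invol_cases {A : SU4} (hA : A * A = 1) (hne : A ≠ 1) :
    (∃ a ∈ ptsL, A = tC a) ∨
      ∃ a ∈ ptsL, ∃ b ∈ ptsL, a ≠ b ∧ U62Recog47.hN a b = 0 ∧ A = tC a * tC b := by
  obtain ⟨a, ha, hB, hc, hlt⟩ := exists_step hA hne
  have hA' : A = A * tC a * tC a := by rw [mul_assoc, tC_sq ha, mul_one]
  by_cases h1 : A * tC a = 1
  · exact Or.inl ⟨a, ha, by rw [hA', h1, one_mul]⟩
  obtain ⟨b, hb, hC, hc', hlt'⟩ := exists_step hB h1
  have h2 : A * tC a * tC b = 1 := rank_zero (by have := rank_le hA; omega)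
  have hb' : A * tC a = tC b := (mul_eq_one_iff_eq_inv.1 h2).trans (inv_eq_of_mul_eq_one_right (tC_sq hb))
  have hA2 : A = tC b * tC a := by rw [← hb']; exact hA'
  refine Or.inr ⟨b, hb, a, ha, fun e => hne (by rw [hA2, e, tC_sq ha]), ?_, hA2⟩
  refine (tv_comm_iff hb ha).1 ?_
  rw [← hb']
  exact hc.mul_left (Commute.refl (tC a))

/-- every transvection is conjugate to the first -/
theorem pt_conj : ∀ a ∈ ptsL, ∃ v, OkW v ∧ tC a = wS v * tC 5 * (wS v)⁻¹ := by
  refine pts_induction (P := fun A => ∃ v, OkW v ∧ A = wS v * tC 5 * (wS v)⁻¹)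
    ⟨[], OkW.nil, by simp [wS_nil]⟩ fun a _ g hg ⟨v, hv, e⟩ =>
      ⟨g :: v, (OkW.single (gen_pts g hg)).append hv, ?_⟩
  rw [e, wS_cons, mul_inv_rev, inv_eq_of_mul_eq_one_right (tC_sq (gen_pts g hg))]
  group

/-- words fixing the point 5 and moving the points orthogonal to it to 80 -/
def toEighty : List (Nat × List Nat) :=
  [(80, []), (85, [96, 85, 80, 96]), (90, [96, 90, 80, 96]), (95, [96, 90, 85, 96]), (96, [96, 80]),
    (101, [96, 90]), (106, [96, 90, 85, 80]), (111, [96, 85]), (112, [96]), (117, [96, 90, 85]),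
    (122, [96, 85, 80]), (127, [96, 90, 80])]

theorem to_eighty_ok : ptsL.all (fun c => c == 5 || U62Recog47.hN 5 c != 0 || toEighty.any fun e =>
    e.1 == c && eqW (e.2 ++ [5] ++ e.2.reverse) [5] && eqW (e.2 ++ [c] ++ e.2.reverse) [80]) = true := by
  decide +kernel

/-- the products of two orthogonal transvections form one class -/
theorem pair_conj {a b : Nat} (ha : a ∈ ptsL) (hb : b ∈ ptsL) (hne : a ≠ b) (h : U62Recog47.hN a b = 0) :
    ∃ v, OkW v ∧ wS v * (tC a * tC b) * (wS v)⁻¹ = tC 5 * tC 80 := by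
  obtain ⟨v, hv, e⟩ := pt_conj a ha
  obtain ⟨c, hc, ec, -⟩ := rel_word hv.reverse hb
  rw [wS_reverse hv, inv_inv] at ec
  have e5 : (wS v)⁻¹ * tC a * wS v = tC 5 := by rw [e]; group
  have hb5 : c ≠ 5 := fun e5' => hne (tC_inj ha hb (by
    rw [show tC a = wS v * ((wS v)⁻¹ * tC a * wS v) * (wS v)⁻¹ by group, e5,
      show tC b = wS v * ((wS v)⁻¹ * tC b * wS v) * (wS v)⁻¹ by group, ec, e5']))
  have hc0 : U62Recog47.hN 5 c = 0 := by
    refine (tv_comm_iff (by decide) hc).1 ?_
    rw [← e5, ← ec]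
    have := ((tv_comm_iff ha hb).2 h).map (MulAut.conj (wS v)⁻¹)
    simpa [mul_assoc] using this
  have hok := List.all_eq_true.1 to_eighty_ok c hc
  simp only [Bool.or_eq_true, beq_iff_eq, bne_iff_ne, List.any_eq_true, Bool.and_eq_true] at hok
  obtain ⟨⟨c', u⟩, -, ⟨hc', h5⟩, h80⟩ := (hok.resolve_left (by rintro (e | e) <;> contradiction))
  subst hc'
  dsimp only at *
  have hu : OkW u := by
    simp only [eqW, Bool.and_eq_true, List.all_eq_true, List.contains_iff_mem] at h5
    exact fun x hx => h5.1.1 x (by simp [hx])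
  refine ⟨u ++ v.reverse, hu.append hv.reverse, ?_⟩
  have w5 := wS_of_eqW h5
  have w80 := wS_of_eqW h80
  simp only [wS_append, wS_reverse hu, wS_single] at w5 w80
  rw [wS_append, wS_reverse hv, mul_inv_rev, inv_inv,
    show wS u * (wS v)⁻¹ * (tC a * tC b) * (wS v * (wS u)⁻¹) =
      wS u * ((wS v)⁻¹ * tC a * wS v) * (wS u)⁻¹ * (wS u * ((wS v)⁻¹ * tC b * wS v) * (wS u)⁻¹) by group,
    e5, ec, w5, w80]

end Cfsg.Agent.Lib.U62Cent47
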