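import Cfsg.Agent.Lib.U62Cent47.Facts.Sylow
import Cfsg.Agent.Lib.U62Cent47.FactsSpec

/-!
Orbits, involutions, fixed points, the 2-rank and centralisers of elements of order five.

Owner: helper94.
-/

set_option autoImplicit false
set_option maxRecDepth 20000

namespace Cfsg.Agent.Lib.U62Cent47.Facts

open Cfsg.Agent.Lib.U62Cent47 Cfsg.Agent.Lib.G24 Cfsg.Agent.Lib.U62Recog47
open scoped Pointwise

/-- the words along a tree -/
def pathsFrom (seed : Nat) (t : List (Nat × Nat × Nat)) : List (Nat × List Nat) :=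
  t.foldl (fun acc e =>
    acc ++ [(e.1, e.2.2 :: ((acc.find? fun p => p.1 == e.2.1).map Prod.snd).getD [])]) [(seed, [])]

theorem nat_paths_ok : (List.range 256).all (fun n => n == 0 || qB 2 n ||
    (pathsFrom 5 natTree).any fun p => p.1 == n && okB p.2 && wN p.2 5 == n) = true := by
  decide +kernel

theorem six_paths_ok : (List.range 64).all (fun y => y == 0 ||
    (bif qB 0 y then pathsFrom 1 sixTree36 else pathsFrom 5 sixTree27).any fun p =>
      p.1 == y && okB p.2 && w6 p.2 (bif qB 0 y then 1 else 5) == y) = true := by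
  decide +kernel

theorem orbit_prop : OrbitProp := by
  refine ⟨fun n hn hn0 hq => ?_, fun y hy hy0 => ?_⟩
  · have h := List.all_eq_true.1 nat_paths_ok n (List.mem_range.2 hn)
    simp only [beq_eq_false_iff_ne.2 hn0, hq, Bool.false_or, List.any_eq_true, Bool.and_eq_true,
      beq_iff_eq] at h
    obtain ⟨p, -, ⟨-, hp⟩, e⟩ := h
    exact ⟨p.2, ok_of_okB hp, e⟩
  · have h := List.all_eq_true.1 six_paths_ok y (List.mem_range.2 hy)
    simp only [beq_eq_false_iff_ne.2 hy0, Bool.false_or, List.any_eq_true, Bool.and_eq_true,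
      beq_iff_eq] at h
    obtain ⟨p, -, ⟨-, hp⟩, e⟩ := h
    exact ⟨p.2, ok_of_okB hp, e⟩

theorem pt_conj_ok : genL.all (fun g => ptsL.all fun a => ptsL.any fun b => eqW [g, a, g] [b]) = true := by
  decide +kernel

/-- conjugates of transvections are transvections -/
theorem conj_pts (A : SU4) : ∀ a ∈ ptsL, ∃ b ∈ ptsL, A * tC a * A⁻¹ = tC b := by
  refine induction_gen (P := fun A => ∀ a ∈ ptsL, ∃ b ∈ ptsL, A * tC a * A⁻¹ = tC b)
    (fun a ha => ⟨a, ha, by simp⟩) ?_ ?_ A
  · intro g hg a ha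
    have h := List.all_eq_true.1 (List.all_eq_true.1 pt_conj_ok g hg) a ha
    rw [List.any_eq_true] at h
    obtain ⟨b, hb, e⟩ := h
    refine ⟨b, hb, ?_⟩
    rw [inv_eq_of_mul_eq_one_right (tC_sq (gen_pts g hg)), mul_assoc, ← wS_single b, ← wS_of_eqW e]
    simp [wS]
  · intro A B hA hB a ha
    obtain ⟨b, hb, e⟩ := hB a ha
    obtain ⟨c, hc, e'⟩ := hA b hb
    exact ⟨c, hc, by rw [← e', ← e]; group⟩

/-- a rank two involution -/
def Plane (A : SU4) : Prop :=
  fixC 2 A = 16 ∧ (∀ n < 256, act 2 A n = n → ∃ k < 256, act 2 A k ^^^ k = n) ∧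
    (∀ k < 256, act 2 A (act 2 A k ^^^ k) = act 2 A k ^^^ k) ∧
    ∀ x < 256, ∀ y < 256, act 2 A x = x → act 2 A y = y → bB 2 x y = false ∧ qB 2 x = false

theorem plane_conj (g A : SU4) (h : Plane A) : Plane (g * A * g⁻¹) := by
  obtain ⟨h1, h2, h3, h4⟩ := h
  have hact : ∀ n < 256, act 2 (g * A * g⁻¹) n = act 2 g (act 2 A (act 2 g⁻¹ n)) := fun n hn => by
    rw [act_mul 2 _ _ hn, act_mul 2 _ _ (act_lt 2 _ hn)]
  have hback : ∀ n < 256, act 2 (g * A * g⁻¹) n = n → act 2 A (act 2 g⁻¹ n) = act 2 g⁻¹ n := by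
    intro n hn e
    rw [hact n hn] at e
    conv_rhs => rw [← e, act_inv_left 2 _ (act_lt 2 _ (act_lt 2 _ hn))]
  refine ⟨by rw [fixC_conj]; exact h1, fun n hn e => ?_, fun k hk => ?_, fun x hx y hy ex ey => ?_⟩
  · obtain ⟨k, hk, ek⟩ := h2 _ (act_lt 2 _ hn) (hback n hn e)
    refine ⟨act 2 g k, act_lt 2 _ hk, ?_⟩
    rw [hact _ (act_lt 2 _ hk), act_inv_left 2 _ hk, ← act_xor 2 g (act_lt 2 _ hk) hk, ek,
      act_inv_right 2 _ hn]
  · have hk' := act_lt 2 g⁻¹ hk
    have h := h3 _ hk'
    have hlt := xor_lt8 (act_lt 2 A hk') hk'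
    have e : act 2 (g * A * g⁻¹) k ^^^ k = act 2 g (act 2 A (act 2 g⁻¹ k) ^^^ act 2 g⁻¹ k) := by
      rw [act_xor 2 g (act_lt 2 _ hk') hk', act_inv_right 2 _ hk, hact k hk]
    rw [e, hact _ (act_lt 2 _ hlt), act_inv_left 2 _ hlt, h]
  · have := h4 _ (act_lt 2 _ hx) _ (act_lt 2 _ hy) (hback x hx ex) (hback y hy ey)
    rwa [bB_act (by norm_num) g⁻¹ hx hy, qB_act (by norm_num) g⁻¹ hx] at this

theorem inv_check_ok : (List.range 64).all (fun i => !(eqW (sW i ++ sW i) []) || eqW (sW i) [] ||
    (ptsL.any fun a => eqW (sW i) [a]) ||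
    (((List.range 256).filter fun n => wN (sW i) n == n).length == 16 &&
      (List.range 256).all (fun n => !(wN (sW i) n == n) ||
        (List.range 256).any fun k => wN (sW i) k ^^^ k == n) &&
      (List.range 256).all (fun k => wN (sW i) (wN (sW i) k ^^^ k) == wN (sW i) k ^^^ k) &&
      (List.range 256).all fun x => !(wN (sW i) x == x) || (List.range 256).all fun y =>
        !(wN (sW i) y == y) || (!(bB 2 x y) && !(qB 2 x)))) = true := by
  decide +kernel

theorem inv_prop : InvProp := by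
  intro w hw h h1
  obtain ⟨g, i, hi, e, hs, hs1⟩ := involution_conj h h1
  have hc := List.all_eq_true.1 inv_check_ok i (List.mem_range.2 hi)
  simp only [hs, hs1, Bool.not_true, Bool.false_or, Bool.or_eq_true, List.any_eq_true] at hc
  rcases hc with ⟨a, ha, ea⟩ | hc
  · obtain ⟨b, hb, eb⟩ := conj_pts g a ha
    exact Or.inl ⟨b, hb, by rw [e, wS_of_eqW ea, wS_single, eb]⟩
  · simp only [Bool.and_eq_true, List.all_eq_true, List.mem_range, List.any_eq_true, beq_iff_eq,
      Bool.or_eq_true, Bool.not_eq_true'] at hc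
    obtain ⟨⟨⟨c1, c2⟩, c3⟩, c4⟩ := hc
    have ha : ∀ n < 256, act 2 (wS (sW i)) n = wN (sW i) n := fun n hn => act_word 2 (sW_ok i) hn
    have hP : Plane (wS (sW i)) := by
      refine ⟨by rw [fixC_word 2 (sW_ok i)]; exact c1, fun n hn e' => ?_, fun k hk => ?_,
        fun x hx y hy ex ey => ?_⟩
      · rw [ha n hn] at e'
        rcases c2 n hn with c | ⟨k, hk, ek⟩
        · simp [e'] at c
        · exact ⟨k, hk, by rw [ha k hk]; exact ek⟩
      · rw [ha k hk, ha _ (xor_lt8 (wN_lt _ hk) hk)]; exact c3 k hk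
      · rw [ha x hx] at ex; rw [ha y hy] at ey
        rcases c4 x hx with c | c
        · simp [ex] at c
        · rcases c y hy with c | c
          · simp [ey] at c
          · exact c
    have hP' := plane_conj g _ hP
    rw [← e] at hP'
    obtain ⟨p1, p2, p3, p4⟩ := hP'
    have hwA : ∀ n < 256, act 2 (wS w) n = wN w n := fun n hn => act_word 2 hw hn
    refine Or.inr ⟨by rw [fixC_word 2 hw] at p1; exact p1, fun n hn e' => ?_, fun k hk => ?_,
      fun x hx y hy ex ey => p4 x hx y hy ((hwA x hx).trans ex) ((hwA y hy).trans ey)⟩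
    · obtain ⟨k, hk, ek⟩ := p2 n hn ((hwA n hn).trans e')
      exact ⟨k, hk, by rwa [hwA k hk] at ek⟩
    · have := p3 k hk
      rwa [hwA k hk, hwA _ (xor_lt8 (wN_lt _ hk) hk)] at this

theorem fix_check_ok : (List.range 64).all (fun i =>
    (!(eqW (sW i ++ sW i) []) || eqW (sW i) [] || (List.range 3).all fun m =>
      decide (((List.range 256).filter fun n => wM m (sW i) n == n).length ≤ 64) &&
        (m == 2 || ((List.range 256).filter fun n => wM m (sW i) n == n).length == 64)) &&
    (!(eqW (sW i ++ sW i ++ (sW i ++ sW i)) []) || eqW (sW i ++ sW i) [] || (List.range 2).all fun m =>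
      ((List.range 256).filter fun n => wM m (sW i) n == n).length == 16)) = true := by
  decide +kernel

theorem fix_prop : FixProp := by
  refine ⟨fun w hw h h1 m hm => ?_, fun w hw ho m hm => ?_⟩
  · obtain ⟨g, i, hi, e, hs, hs1⟩ := involution_conj h h1
    have hc := List.all_eq_true.1 fix_check_ok i (List.mem_range.2 hi)
    simp only [hs, hs1, Bool.not_true, Bool.false_or, Bool.and_eq_true, List.all_eq_true,
      List.mem_range, decide_eq_true_eq, Bool.or_eq_true, beq_iff_eq] at hc
    rw [← fixC_word m hw, e, fixC_conj, fixC_word m (sW_ok i)]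
    exact ⟨(hc.1 m hm).1, fun hm2 => ((hc.1 m hm).2).resolve_left (by omega)⟩
  · obtain ⟨g, i, hi, e⟩ := exists_conj_elt 2 (A := wS w) ho
    have hs : orderOf (wS (sW i)) = 4 := by
      have h := orderOf_injective (MulAut.conj g).toMonoidHom (MulAut.conj g).injective (wS (sW i))
      rw [show (MulAut.conj g).toMonoidHom (wS (sW i)) = wS w from e.symm, ho] at h
      exact h.symm
    have h4 : eqW (sW i ++ sW i ++ (sW i ++ sW i)) [] = true := by
      refine eqW_of_wS (ok_append (ok_append (sW_ok i) (sW_ok i)) (ok_append (sW_ok i) (sW_ok i)))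
        ok_nil ?_
      rw [wS_append, wS_append, wS_nil, ← pow_two, ← pow_two, ← pow_mul]
      have h := pow_orderOf_eq_one (wS (sW i))
      rwa [hs] at h
    have h2 : eqW (sW i ++ sW i) [] = false := by
      rw [Bool.eq_false_iff]
      intro hq
      have h := wS_of_eqW hq
      rw [wS_append, wS_nil, ← pow_two] at h
      have := orderOf_le_of_pow_eq_one (by norm_num) h
      omega
    have hc := List.all_eq_true.1 fix_check_ok i (List.mem_range.2 hi)
    simp only [h4, h2, Bool.not_true, Bool.false_or, Bool.and_eq_true, List.all_eq_true,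
      List.mem_range, beq_iff_eq] at hc
    rw [← fixC_word m hw, e, fixC_conj, fixC_word m (sW_ok i)]
    exact hc.2 m hm

theorem rank_check_ok : sylCol.all (fun c => decide (c < 16)) = true ∧
    (List.range 64).all (fun i => (List.range i).all fun j =>
      !(sylCol.getD i 0 == sylCol.getD j 0) || !(eqW (sW i ++ sW i) []) || !(eqW (sW j ++ sW j) []) ||
        !(eqW (sW i ++ sW j) (sW j ++ sW i))) = true := by
  decide +kernel

theorem getD_lt {l : List Nat} {b : Nat} (hb : 0 < b) (h : l.all (fun c => decide (c < b)) = true)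
    (i : Nat) : l.getD i 0 < b := by
  by_cases hi : i < l.length
  · rw [List.getD_eq_getElem?_getD, List.getElem?_eq_getElem hi, Option.getD_some]
    exact of_decide_eq_true (List.all_eq_true.1 h _ (List.getElem_mem hi))
  · rw [List.getD_eq_getElem?_getD, List.getElem?_eq_none (by omega), Option.getD_none]; exact hb

theorem sq_group {G : Type*} [Group G] {E : Subgroup G} (h : ∀ x ∈ E, x * x = 1) :
    IsPGroup 2 E ∧ ∀ x ∈ E, ∀ y ∈ E, x * y = y * x := by
  refine ⟨fun x => ⟨1, Subtype.ext (by simpa [pow_two] using h x.1 x.2)⟩, fun x hx y hy => ?_⟩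
  have e := h _ (E.mul_mem hx hy)
  have hinv : ∀ z ∈ E, z⁻¹ = z := fun z hz => inv_eq_of_mul_eq_one_right (h z hz)
  calc x * y = (x * y)⁻¹ := (hinv _ (E.mul_mem hx hy)).symm
    _ = y * x := by rw [mul_inv_rev, hinv x hx, hinv y hy]

theorem rank_prop : RankProp := by
  intro E hE
  obtain ⟨g, hg⟩ := exists_conj E (sq_group hE).1
  have hex : ∀ x : E, ∃ i < 64, g * x.1 * g⁻¹ = wS (sW i) := fun x => mem_syl.1 (hg x.1 x.2)
  choose idx hidx eidx using hex
  let f : E → Fin 16 := fun x =>
    ⟨sylCol.getD (idx x) 0, getD_lt (by norm_num) rank_check_ok.1 _⟩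
  suffices hf : Function.Injective f by
    simpa using Nat.card_le_card_of_injective f hf
  intro x y hxy
  have hsq : ∀ z : E, eqW (sW (idx z) ++ sW (idx z)) [] = true := fun z =>
    eqW_of_wS (ok_append (sW_ok _) (sW_ok _)) ok_nil (by
      rw [wS_append, wS_nil, ← eidx, ← (conj_eq_one (g := g)).2 (hE z.1 z.2)]; group)
  have hcm : ∀ u v : E, eqW (sW (idx u) ++ sW (idx v)) (sW (idx v) ++ sW (idx u)) = true := fun u v =>
    eqW_of_wS (ok_append (sW_ok _) (sW_ok _)) (ok_append (sW_ok _) (sW_ok _)) (by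
      rw [wS_append, wS_append, ← eidx, ← eidx]
      have := (sq_group hE).2 u.1 u.2 v.1 v.2
      calc g * u.1 * g⁻¹ * (g * v.1 * g⁻¹) = g * (u.1 * v.1) * g⁻¹ := by group
        _ = g * (v.1 * u.1) * g⁻¹ := by rw [this]
        _ = _ := by group)
  have key : ∀ u v : E, f u = f v → ¬ idx v < idx u := by
    intro u v huv hlt
    have h := List.all_eq_true.1 (List.all_eq_true.1 rank_check_ok.2 _ (List.mem_range.2 (hidx u))) _
      (List.mem_range.2 hlt)
    have e : sylCol.getD (idx u) 0 = sylCol.getD (idx v) 0 := congrArg Fin.val huv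
    simp only [hsq u, hsq v, hcm u v, e, beq_self_eq_true, Bool.not_true, Bool.or_self] at h
    exact absurd h (by decide)
  have e : idx x = idx y := le_antisymm (not_lt.1 (key x y hxy)) (not_lt.1 (key y x hxy.symm))
  have := (eidx x).trans ((congrArg (fun i => wS (sW i)) e).trans (eidx y).symm)
  exact Subtype.ext (mul_left_cancel (mul_right_cancel this))

theorem tv_check_ok : ptsL.all (fun a => ptsL.all fun b => !(eqW [a, b] [b, a]) || ptsL.all fun c =>
    !(eqW [a, b] [c])) = true := by decide +kernel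

theorem tv_prod_prop : TvProdProp := by
  intro a ha b hb c hc hcm h
  have h1 : eqW [a, b] [b, a] = true := eqW_of_wS (by simp [ha, hb]) (by simp [ha, hb])
    (by simpa [wS] using hcm.eq)
  have h2 : eqW [a, b] [c] = true := eqW_of_wS (by simp [ha, hb]) (by simp [hc]) (by simpa [wS] using h)
  have := List.all_eq_true.1 (List.all_eq_true.1 tv_check_ok a ha) b hb
  rw [h1, Bool.not_true, Bool.false_or, List.all_eq_true] at this
  have := this c hc
  rw [h2] at this
  exact absurd this (by decide)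

/-- the images of a basis determined by the image of the code 1 -/
def fiveIm (n : Nat) : List Nat :=
  let b := [n, wN g5W n, wN g5W (wN g5W n), wN g5W (wN g5W (wN g5W n))]
  b ++ b.map (smN 2)

/-- the subsets giving the eight basis codes -/
def fiveMask : List Nat := [1, 16, 167, 218, 98, 70, 67, 116]

/-- the sum of a subset -/
def pick (l : List Nat) (mask : Nat) : Nat :=
  (List.range 8).foldr (fun i r => (bif mask.testBit i then l.getD i 0 else 0) ^^^ r) 0

/-- the linear map of a candidate image -/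
def fiveMap (n x : Nat) : Nat := bitsX (fun p => pick (fiveIm n) (fiveMask.getD p.log2 0)) x

theorem five_check_ok : (List.range 8).all (fun j => pick (fiveIm 1) (fiveMask.getD j 0) == 2 ^ j &&
      Nat.log2 (2 ^ j) == j) = true ∧
    (List.range 256).all (fun n => n == 1 ||
      !((List.range 8).all fun j => fiveMap n (fiveMap n (2 ^ j)) == 2 ^ j) ||
      !((List.range 256).all fun x => qB 2 (fiveMap n x) == qB 2 x)) = true := by
  decide +kernel

theorem act_smN (A : SU4) (l : Nat) (hl : l < 4) {x : Nat} (hx : x < 256) :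
    act 2 A (smN l x) = smN l (act 2 A x) :=
  vec_inj (act_lt 2 _ (smN_lt _ _)) (smN_lt _ _) (by
    rw [← act_two_vec, vec_smN hl, vec_smN hl, Matrix.mulVec_smul, act_two_vec])

theorem g5_ok : eqW (g5W ++ g5W ++ g5W ++ g5W ++ g5W) [] = true ∧ eqW g5W [] = false ∧
    okB g5W = true := by decide +kernel

theorem five_prop : FiveProp := by
  intro A B hA hB hAB
  haveI : Fact (Nat.Prime 5) := ⟨by norm_num⟩
  haveI : Finite SU4 := Nat.finite_of_card_ne_zero (by rw [card_SU4]; norm_num)
  set b := wS g5W with hb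
  have hob : orderOf b = 5 := by
    refine orderOf_eq_prime ?_ fun e => ?_
    · have h := wS_of_eqW g5_ok.1
      simpa [wS_append, wS_nil, pow_succ, hb, mul_assoc] using h
    · have h := eqW_of_wS (ok_of_okB g5_ok.2.2) ok_nil (e.trans wS_nil.symm)
      rw [g5_ok.2.1] at h
      exact absurd h (by decide)
  have hsyl : ∀ C : SU4, orderOf C = 5 →
      IsPGroup 5 (Subgroup.zpowers C) ∧ ¬ 5 ∣ (Subgroup.zpowers C).index := by
    intro C hC
    refine ⟨IsPGroup.of_card (n := 1) (by rw [Nat.card_zpowers, hC, pow_one]), ?_⟩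
    have h := (Subgroup.zpowers C).card_mul_index
    rw [Nat.card_zpowers, hC, card_SU4] at h
    omega
  obtain ⟨g, hg⟩ := MulAction.exists_smul_eq SU4 ((hsyl B hB).1.toSylow (hsyl B hB).2)
    ((hsyl b hob).1.toSylow (hsyl b hob).2)
  have h2 := congrArg (fun Q : Sylow 5 SU4 => (Q : Subgroup SU4)) hg
  simp only [Sylow.coe_subgroup_smul] at h2
  have hbm : b ∈ MulAut.conj g • Subgroup.zpowers B := by
    show b ∈ MulAut.conj g • ((hsyl B hB).1.toSylow (hsyl B hB).2 : Subgroup SU4)
    rw [h2]; exact Subgroup.mem_zpowers b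
  obtain ⟨y, hy, ey⟩ := (Subgroup.mem_smul_pointwise_iff_exists _ _ _).1 hbm
  obtain ⟨k, rfl⟩ := Subgroup.mem_zpowers_iff.1 hy
  set C := g * A * g⁻¹ with hC
  have hcm : C * b = b * C := by
    rw [← ey]
    show g * A * g⁻¹ * (g * B ^ k * g⁻¹) = g * B ^ k * g⁻¹ * (g * A * g⁻¹)
    calc g * A * g⁻¹ * (g * B ^ k * g⁻¹) = g * (A * B ^ k) * g⁻¹ := by group
      _ = g * (B ^ k * A) * g⁻¹ := by rw [(hAB.zpow_right k).eq]
      _ = _ := by group
  have hAA : A * A = 1 := by
    have h := pow_orderOf_eq_one A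
    rw [hA, pow_two] at h
    exact h
  have hA1 : A ≠ 1 := fun e => by rw [e, orderOf_one] at hA; omega
  have hC2 : C * C = 1 := by rw [hC, ← (conj_eq_one (g := g)).2 hAA]; group
  set n := act 2 C 1 with hn
  have hn' : n < 256 := act_lt 2 C (by norm_num)
  have hbw : ∀ x < 256, act 2 C (wN g5W x) = wN g5W (act 2 C x) := fun x hx => by
    rw [← wM_two, ← act_word 2 (ok_of_okB g5_ok.2.2) hx, ← hb, ← act_mul 2 _ _ hx, hcm,
      act_mul 2 _ _ hx, hb, act_word 2 (ok_of_okB g5_ok.2.2) (act_lt 2 C hx)]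
    rfl
  have e1 := hbw 1 (by norm_num)
  have e2 := hbw _ (wN_lt g5W (show 1 < 256 by norm_num))
  have e3 := hbw _ (wN_lt g5W (wN_lt g5W (show 1 < 256 by norm_num)))
  rw [← hn] at e1
  rw [e1] at e2
  rw [e2] at e3
  have him : ∀ i, (fiveIm n).getD i 0 = act 2 C ((fiveIm 1).getD i 0) ∧ (fiveIm 1).getD i 0 < 256 := by
    have hz : act 2 C 0 = 0 := wM_zero 2 _
    have hl : wN g5W 1 < 256 := wN_lt _ (by norm_num)
    intro i
    match i with
    | 0 => exact ⟨hn, by norm_num [fiveIm]⟩
    | 1 => exact ⟨e1.symm, hl⟩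
    | 2 => exact ⟨e2.symm, wN_lt _ hl⟩
    | 3 => exact ⟨e3.symm, wN_lt _ (wN_lt _ hl)⟩
    | 4 => exact ⟨((act_smN C 2 (by norm_num) (by norm_num)).trans (congrArg (smN 2) hn.symm)).symm,
        smN_lt _ _⟩
    | 5 => exact ⟨((act_smN C 2 (by norm_num) hl).trans (congrArg (smN 2) e1)).symm,
        smN_lt _ _⟩
    | 6 => exact ⟨((act_smN C 2 (by norm_num) (wN_lt _ hl)).trans (congrArg (smN 2) e2)).symm,
        smN_lt _ _⟩
    | 7 => exact ⟨((act_smN C 2 (by norm_num) (wN_lt _ (wN_lt _ hl))).trans (congrArg (smN 2) e3)).symm,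
        smN_lt _ _⟩
    | i + 8 => exact ⟨by simp [fiveIm, hz], by simp [fiveIm]⟩
  have hpick : ∀ mask, pick (fiveIm 1) mask < 256 ∧
      act 2 C (pick (fiveIm 1) mask) = pick (fiveIm n) mask := by
    intro mask
    unfold pick
    induction List.range 8 with
    | nil => exact ⟨by norm_num, wM_zero 2 _⟩
    | cons i l ih =>
      rw [List.foldr_cons, List.foldr_cons]
      cases mask.testBit i
      · simpa using ih
      · exact ⟨xor_lt8 (him i).2 ih.1, by
          rw [Bool.cond_true, Bool.cond_true, act_xor 2 C (him i).2 ih.1, ih.2, (him i).1]⟩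
  have hbas : ∀ j < 8, act 2 C (2 ^ j) = pick (fiveIm n) (fiveMask.getD j 0) := fun j hj => by
    have h := List.all_eq_true.1 five_check_ok.1 j (List.mem_range.2 hj)
    simp only [Bool.and_eq_true, beq_iff_eq] at h
    rw [← (hpick _).2, h.1]
  have hmap : ∀ x < 256, fiveMap n x = act 2 C x := fun x hx => by
    show fiveMap n x = wM 2 (wd C) x
    rw [fiveMap, map_bitsX (wM_zero 2 (wd C)) (fun p q => wM_xor 2 (wd C)) hx]
    unfold bitsX
    have key : ∀ l : List Nat, (∀ j ∈ l, j < 8) →
        l.foldr (fun j r => (bif x.testBit j then pick (fiveIm n) (fiveMask.getD (2 ^ j).log2 0) else 0) ^^^ r) 0 =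
          l.foldr (fun j r => (bif x.testBit j then wM 2 (wd C) (2 ^ j) else 0) ^^^ r) 0 := by
      intro l
      induction l with
      | nil => exact fun _ => rfl
      | cons j l ih =>
        intro hl
        have hj := hl j List.mem_cons_self
        have h := List.all_eq_true.1 five_check_ok.1 j (List.mem_range.2 hj)
        simp only [Bool.and_eq_true, beq_iff_eq] at h
        rw [List.foldr_cons, List.foldr_cons, ih fun k hk => hl k (List.mem_cons_of_mem _ hk), h.2,
          ← hbas j hj]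
        rfl
    exact key _ fun j hj => List.mem_range.1 hj
  have hc := List.all_eq_true.1 five_check_ok.2 n (List.mem_range.2 hn')
  simp only [Bool.or_eq_true, Bool.not_eq_true', beq_iff_eq, ← Bool.not_eq_true, List.all_eq_true,
    List.mem_range] at hc
  rcases hc with (hc | hc) | hc
  · refine hA1 (conj_eq_one.1 (show g * A * g⁻¹ = 1 from ext_act fun j hj => ?_))
    rw [← hC, hbas j hj, hc, act_one 2 (pow_lt hj)]
    have h := List.all_eq_true.1 five_check_ok.1 j (List.mem_range.2 hj)
    simp only [Bool.and_eq_true, beq_iff_eq] at h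
    exact h.1
  · refine hc fun j hj => ?_
    rw [hmap _ (pow_lt hj), hmap _ (act_lt 2 C (pow_lt hj)), ← act_mul 2 _ _ (pow_lt hj), hC2,
      act_one 2 (pow_lt hj)]
  · exact hc fun x hx => by rw [hmap x hx, qB_act (by norm_num) C hx]

end Cfsg.Agent.Lib.U62Cent47.Facts
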