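import Cfsg.Agent.Lib.U62Cent47.Facts.Small

/-!
The stabiliser of a vector, invariant isotropic subgroups, and invariant subgroups of fixed planes.

Owner: helper94.
-/

set_option autoImplicit false
set_option maxRecDepth 20000

namespace Cfsg.Agent.Lib.U62Cent47.Facts

open Cfsg.Agent.Lib.U62Cent47 Cfsg.Agent.Lib.G24 Cfsg.Agent.Lib.U62Recog47

/-- a member of the stabiliser of the vector 5 -/
def tW (i : Nat) : List Nat := stW.getD i []

/-- the packed images of the basis -/
def fpW (w : List Nat) : Nat := (List.range 8).foldr (fun j r => wN w (2 ^ j) + 256 * r) 0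

theorem st_ok : (List.range 192).all (fun i => okB (tW i) && wN (tW i) 5 == 5) = true ∧
    (List.range 191).all (fun i => Nat.blt (fpW (tW i)) (fpW (tW (i + 1)))) = true := by
  decide +kernel

theorem tW_ok {i : Nat} (hi : i < 192) : ∀ a ∈ tW i, a ∈ ptsL := by
  have h := List.all_eq_true.1 st_ok.1 i (List.mem_range.2 hi)
  rw [Bool.and_eq_true] at h
  exact ok_of_okB h.1

theorem fpW_congr {v w : List Nat} (hv : ∀ a ∈ v, a ∈ ptsL) (hw : ∀ a ∈ w, a ∈ ptsL)
    (h : wS v = wS w) : fpW v = fpW w := by
  unfold fpW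
  have key : ∀ l : List Nat, (∀ j ∈ l, j < 8) →
      l.foldr (fun j r => wN v (2 ^ j) + 256 * r) 0 = l.foldr (fun j r => wN w (2 ^ j) + 256 * r) 0 := by
    intro l
    induction l with
    | nil => exact fun _ => rfl
    | cons j l ih =>
      intro hl
      rw [List.foldr_cons, List.foldr_cons, wN_congr hv hw h (pow_lt (hl j List.mem_cons_self)),
        ih fun k hk => hl k (List.mem_cons_of_mem _ hk)]
  exact key _ fun j hj => List.mem_range.1 hj

theorem tW_inj {i j : Nat} (hi : i < 192) (hj : j < 192) (h : wS (tW i) = wS (tW j)) : i = j := by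
  have hlt : ∀ d i : Nat, i + d + 1 < 192 → fpW (tW i) < fpW (tW (i + d + 1)) := by
    intro d
    induction d with
    | zero =>
      intro i hi
      exact Nat.blt_eq.mp (List.all_eq_true.1 st_ok.2 i (List.mem_range.2 (by omega)))
    | succ d ih =>
      intro i hi
      refine lt_trans (ih i (by omega)) ?_
      exact Nat.blt_eq.mp (List.all_eq_true.1 st_ok.2 (i + d + 1) (List.mem_range.2 (by omega)))
  have e := fpW_congr (tW_ok hi) (tW_ok hj) h
  rcases Nat.lt_trichotomy i j with hh | hh | hh
  · obtain ⟨d, rfl⟩ := Nat.exists_eq_add_of_lt hh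
    exact absurd e (hlt d i hj).ne
  · exact hh
  · obtain ⟨d, rfl⟩ := Nat.exists_eq_add_of_lt hh
    exact absurd e (hlt d j hi).ne'

/-- the stabiliser of the vector 5 -/
noncomputable def st : Subgroup SU4 where
  carrier := {A | act 2 A 5 = 5}
  one_mem' := act_one 2 (by norm_num)
  mul_mem' {A B} (hA : act 2 A 5 = 5) (hB : act 2 B 5 = 5) := by
    show act 2 (A * B) 5 = 5
    rw [act_mul 2 _ _ (by norm_num), hB, hA]
  inv_mem' {A} (hA : act 2 A 5 = 5) := by
    show act 2 A⁻¹ 5 = 5
    conv_lhs => rw [← hA]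
    exact act_inv_left 2 _ (by norm_num)

theorem iso_count : ((Finset.range 256).filter fun n => n ≠ 0 ∧ qB 2 n = false).card = 135 := by
  decide +kernel

theorem mem_st {x : SU4} (hx : x ∈ st) : ∃ i < 192, x = wS (tW i) := by
  haveI : Finite SU4 := Nat.finite_of_card_ne_zero (by rw [card_SU4]; norm_num)
  set S := (Finset.range 256).filter fun n => n ≠ 0 ∧ qB 2 n = false with hS
  have hex : ∀ n : S, ∃ g : SU4, act 2 g 5 = n.1 := fun n => by
    have h := n.2
    simp only [hS, Finset.mem_filter, Finset.mem_range] at h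
    obtain ⟨w, hw, e⟩ := orbit_prop.1 n.1 h.1 h.2.1 h.2.2
    exact ⟨wS w, by rw [act_word 2 hw (by norm_num)]; exact e⟩
  choose g hg using hex
  let f : S × st → SU4 := fun p => g p.1 * p.2.1
  have hf : Function.Injective f := by
    rintro ⟨n, s⟩ ⟨n', s'⟩ e
    have e' : g n * s.1 = g n' * s'.1 := e
    have h := congrArg (fun A => act 2 A 5) e'
    simp only [act_mul 2 _ _ (show 5 < 256 by norm_num)] at h
    rw [show act 2 s.1 5 = 5 from s.2, show act 2 s'.1 5 = 5 from s'.2, hg, hg] at h
    obtain rfl : n = n' := Subtype.ext h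
    exact Prod.ext rfl (Subtype.ext (mul_left_cancel e'))
  have hle := Nat.card_le_card_of_injective f hf
  rw [Nat.card_prod, Nat.card_eq_finsetCard, hS, iso_count, card_SU4] at hle
  let t : Fin 192 → st := fun i => ⟨wS (tW i.1), by
    show act 2 (wS (tW i.1)) 5 = 5
    have h := List.all_eq_true.1 st_ok.1 i.1 (List.mem_range.2 i.2)
    simp only [Bool.and_eq_true, beq_iff_eq] at h
    rw [act_word 2 (tW_ok i.2) (by norm_num)]
    exact h.2⟩
  have ht : Function.Injective t := fun i j e => Fin.ext (tW_inj i.2 j.2 (congrArg Subtype.val e))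
  have h192 := Nat.card_le_card_of_injective t ht
  rw [Nat.card_eq_fintype_card, Fintype.card_fin] at h192
  obtain ⟨i, e⟩ := ((Nat.bijective_iff_injective_and_card t).2
    ⟨ht, by rw [Nat.card_eq_fintype_card, Fintype.card_fin]; omega⟩).2 ⟨x, hx⟩
  exact ⟨i.1, i.2, (congrArg Subtype.val e).symm⟩

/-- commuting with its conjugates under the generators of the stabiliser -/
def candB (i : Nat) : Bool :=
  eqW (tW i ++ tW i) [] && stabN.all fun a =>
    eqW (tW i ++ ([a] ++ tW i ++ [a])) ([a] ++ tW i ++ [a] ++ tW i)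

/-- short words in the generators of the stabiliser -/
def wTwo : List (List Nat) :=
  [[]] ++ stabN.map (fun a => [a]) ++ stabN.flatMap fun a => stabN.map fun b => [a, b]

theorem cand_ok : (List.range 192).all (fun i => !(candB i) || decide (stCol.getD i 8 < 8)) = true := by
  decide +kernel

theorem st_colour_ok : (List.range 192).all (fun i => !(decide (stCol.getD i 8 < 8)) ||
    (List.range i).all fun j => !(stCol.getD i 8 == stCol.getD j 8) ||
      !(eqW (tW i ++ tW j) (tW j ++ tW i))) = true := by
  decide +kernel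

theorem st_five_ok : (List.range 192).all (fun i => !(decide (stCol.getD i 8 < 8)) || eqW (tW i) [] ||
    wTwo.any fun u => eqW (u ++ tW i ++ u.reverse) [5] ||
      wTwo.any fun v => eqW (u ++ tW i ++ u.reverse ++ (v ++ tW i ++ v.reverse)) [5]) = true := by
  decide +kernel

theorem stabN_ok : ∀ a ∈ stabN, a ∈ ptsL := by decide +kernel

theorem wTwo_ok : ∀ u ∈ wTwo, ∀ a ∈ u, a ∈ stabN := by decide +kernel

theorem mem_conj_word {E : Subgroup SU4} (h : ∀ a ∈ stabN, ∀ x ∈ E, tC a * x * tC a ∈ E) :
    ∀ u : List Nat, (∀ a ∈ u, a ∈ stabN) → ∀ x ∈ E, wS u * x * wS u.reverse ∈ E := by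
  intro u
  induction u with
  | nil => intro _ x hx; simpa [wS_nil] using hx
  | cons a u ih =>
    intro hu x hx
    have h' := h a (hu a List.mem_cons_self) _ (ih (fun b hb => hu b (List.mem_cons_of_mem _ hb)) x hx)
    rw [List.reverse_cons, wS_cons, wS_append, wS_single]
    simpa [mul_assoc] using h'

theorem stab_prop : StabProp := by
  intro E hsq hfix hnorm
  have hcom := (sq_group hsq).2
  have hex : ∀ x : E, ∃ i < 192, x.1 = wS (tW i) := fun x => mem_st (by
    show act 2 x.1 5 = 5
    have h := hfix x.1 x.2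
    rw [act_two_vec] at h
    exact vec_inj (act_lt 2 _ (by norm_num)) (by norm_num) h)
  choose idx hidx eidx using hex
  have hcol : ∀ x : E, stCol.getD (idx x) 8 < 8 := by
    intro x
    have hc : candB (idx x) = true := by
      simp only [candB, Bool.and_eq_true, List.all_eq_true]
      have hw := tW_ok (hidx x)
      refine ⟨eqW_of_wS (ok_append hw hw) ok_nil ?_, fun a ha => ?_⟩
      · rw [wS_append, ← eidx, wS_nil]; exact hsq x.1 x.2
      · have ha' : ∀ b ∈ [a], b ∈ ptsL := by simpa using stabN_ok a ha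
        refine eqW_of_wS (ok_append hw (ok_append (ok_append ha' hw) ha'))
          (ok_append (ok_append (ok_append ha' hw) ha') hw) ?_
        simp only [wS_append, wS_single, ← eidx]
        exact hcom x.1 x.2 _ (hnorm a ha x.1 x.2)
    have h := List.all_eq_true.1 cand_ok _ (List.mem_range.2 (hidx x))
    rw [hc, Bool.not_true, Bool.false_or, decide_eq_true_eq] at h
    exact h
  refine ⟨?_, fun hne => ?_⟩
  · let f : E → Fin 8 := fun x => ⟨stCol.getD (idx x) 8, hcol x⟩
    suffices hf : Function.Injective f by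
      simpa using Nat.card_le_card_of_injective f hf
    have key : ∀ u v : E, f u = f v → ¬ idx v < idx u := by
      intro u v huv hlt
      have h := List.all_eq_true.1 st_colour_ok _ (List.mem_range.2 (hidx u))
      simp only [hcol u, decide_true, Bool.not_true, Bool.false_or, List.all_eq_true,
        List.mem_range] at h
      have h := h _ hlt
      have e : stCol.getD (idx u) 8 = stCol.getD (idx v) 8 := congrArg Fin.val huv
      have hc : eqW (tW (idx u) ++ tW (idx v)) (tW (idx v) ++ tW (idx u)) = true :=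
        eqW_of_wS (ok_append (tW_ok (hidx u)) (tW_ok (hidx v)))
          (ok_append (tW_ok (hidx v)) (tW_ok (hidx u)))
          (by rw [wS_append, wS_append, ← eidx, ← eidx]; exact hcom u.1 u.2 v.1 v.2)
      rw [e, hc] at h
      simp at h
    intro x y hxy
    have e : idx x = idx y := le_antisymm (not_lt.1 (key x y hxy)) (not_lt.1 (key y x hxy.symm))
    exact Subtype.ext ((eidx x).trans ((congrArg (fun i => wS (tW i)) e).trans (eidx y).symm))
  · obtain ⟨x, hx, hx1⟩ : ∃ x ∈ E, x ≠ 1 := by
      by_contra hcon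
      push Not at hcon
      exact hne (E.eq_bot_iff_forall.2 hcon)
    set i := idx ⟨x, hx⟩ with hi
    have hxi : x = wS (tW i) := eidx ⟨x, hx⟩
    have hne1 : eqW (tW i) [] = false := by
      rw [Bool.eq_false_iff]
      intro hq
      exact hx1 (by rw [hxi, wS_of_eqW hq, wS_nil])
    have h := List.all_eq_true.1 st_five_ok i (List.mem_range.2 (hidx _))
    simp only [show decide (stCol.getD i 8 < 8) = true from decide_eq_true (hcol _), hne1,
      Bool.not_true, Bool.false_or, List.any_eq_true, Bool.or_eq_true] at h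
    obtain ⟨u, hu, h⟩ := h
    rcases h with h | ⟨v, hv, h⟩
    · rw [← wS_single, ← wS_of_eqW h, wS_append, wS_append, ← hxi]
      exact mem_conj_word hnorm u (wTwo_ok u hu) x hx
    · rw [← wS_single, ← wS_of_eqW h, wS_append, wS_append, wS_append, wS_append, wS_append, ← hxi]
      exact E.mul_mem (mem_conj_word hnorm u (wTwo_ok u hu) x hx)
        (mem_conj_word hnorm v (wTwo_ok v hv) x hx)

/-- orthogonal to `v` and pairwise orthogonal images under listed words -/
def isoOne (m v : Nat) (gs : List (List Nat)) (x : Nat) : Bool :=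
  !(bB m v x) && ([] :: gs).all fun g => ([] :: gs).all fun h => !(bB m (wM m g x) (wM m h x))

/-- two rounds of invariance -/
def isoThree (m v : Nat) (gs : List (List Nat)) (x : Nat) : Bool :=
  isoOne m v gs x && gs.all fun g => isoOne m v gs (wM m g x) &&
    gs.all fun h => isoOne m v gs (wM m h (wM m g x))

theorem isoThree_of {m v : Nat} {gs : List (List Nat)} {N : Finset Nat} (hv : v ∈ N)
    (hinv : ∀ g ∈ gs, ∀ x ∈ N, wM m g x ∈ N) (hbil : ∀ x ∈ N, ∀ y ∈ N, bB m x y = false)
    {x : Nat} (hx : x ∈ N) : isoThree m v gs x = true := by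
  have hinv' : ∀ g ∈ [] :: gs, ∀ y ∈ N, wM m g y ∈ N := by
    intro g hg y hy
    rcases List.mem_cons.1 hg with rfl | hg
    · exact hy
    · exact hinv g hg y hy
  have h1 : ∀ y ∈ N, isoOne m v gs y = true := fun y hy => by
    simp only [isoOne, Bool.and_eq_true, Bool.not_eq_true', List.all_eq_true]
    exact ⟨hbil v hv y hy, fun g hg h hh => hbil _ (hinv' g hg y hy) _ (hinv' h hh y hy)⟩
  simp only [isoThree, Bool.and_eq_true, List.all_eq_true]
  exact ⟨h1 x hx, fun g hg => ⟨h1 _ (hinv g hg x hx), fun h hh => h1 _ (hinv h hh _ (hinv g hg x hx))⟩⟩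

/-- the span of a list of codes -/
def spanX (l : List Nat) : List Nat :=
  l.foldl (fun acc x => bif acc.contains x then acc else acc ++ acc.map (fun y => y ^^^ x)) [0]

theorem spanX_mem {N : Finset Nat} (hN : Sub256 N) {l : List Nat} (hl : ∀ x ∈ l, x ∈ N) :
    ∀ z ∈ spanX l, z ∈ N := by
  unfold spanX
  have key : ∀ (l acc : List Nat), (∀ x ∈ l, x ∈ N) → (∀ z ∈ acc, z ∈ N) → ∀ z ∈ l.foldl
      (fun acc x => bif acc.contains x then acc else acc ++ acc.map (fun y => y ^^^ x)) acc, z ∈ N := by
    intro l
    induction l with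
    | nil => exact fun acc _ h => h
    | cons x l ih =>
      intro acc hl hacc
      refine ih _ (fun a ha => hl a (List.mem_cons_of_mem _ ha)) fun z hz => ?_
      cases hc : acc.contains x
      · simp only [hc, Bool.cond_false, List.mem_append, List.mem_map] at hz
        rcases hz with hz | ⟨y, hy, rfl⟩
        · exact hacc z hz
        · exact hN.add _ (hacc y hy) _ (hl x List.mem_cons_self)
      · simp only [hc, Bool.cond_true] at hz
        exact hacc z hz
  exact key l [0] hl (by simpa using hN.zero)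

/-- the generators of the stabiliser as words -/
def stabW : List (List Nat) := stabN.map fun a => [a]

/-- the codes surviving two rounds -/
def isoL : List Nat :=
  [0, 5, 10, 15, 80, 85, 90, 95, 96, 101, 106, 111, 112, 117, 122, 127, 144, 149, 154, 159, 160, 165,
  170, 175, 176, 181, 186, 191, 208, 213, 218, 223, 224, 229, 234, 239, 240, 245, 250, 255]

set_option maxHeartbeats 2000000 in
theorem isoL_ok : (List.range 256).all (fun x => !(isoThree 2 5 stabW x) || isoL.contains x) = true := by
  decide +kernel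

theorem plane_check_ok : isoL.all (fun x => [0, 5, 10, 15].contains x || invPlanes.any fun P =>
    (P.all fun z => (spanX (5 :: wTwo.map fun g => wN g x)).contains z) &&
      isoL.all fun y => !(([] :: stabW).all fun g => !(bB 2 (wM 2 g x) y)) || P.contains y) = true := by
  decide +kernel

theorem plane_closed_ok : invPlanes.all (fun P => decide (P.length = 16) &&
    (List.range 256).all fun u => bB 2 5 u ||
      !(stabN.all fun a => P.contains (tN a u ^^^ u)) || P.contains u) = true := by
  decide +kernel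

/-- the base vectors of the six-dimensional module and elements fixing them -/
def sixBase : List (Nat × List (List Nat)) :=
  [(0, [[5], [20], [80], [7]]), (1, [[5], [6], [80], [102]]), (5, [[20], [68, 17], [86, 66]])]

/-- pairwise orthogonal subsets have at most four members -/
def cliqueFour (m : Nat) (C : List Nat) : Bool :=
  decide (C.length ≤ 8) && C.sublists.all fun s =>
    Nat.ble s.length 4 || !(s.all fun x => s.all fun y => !(bB m x y))

set_option maxHeartbeats 2000000 in
theorem six_base_ok : (List.range 2).all (fun m => sixBase.all fun e => (List.range 4).all fun h =>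
    (e.1 ||| h * 64) == 0 || qB m (e.1 ||| h * 64) ||
      (e.2.all (fun g => okB g && wM m g (e.1 ||| h * 64) == (e.1 ||| h * 64)) &&
        cliqueFour m ((List.range 256).filter fun x => isoThree m (e.1 ||| h * 64) e.2 x))) = true := by
  decide +kernel

theorem isotropic_prop : IsotropicProp := by
  refine ⟨fun N hN h5 hinv hbil => ?_, ?_⟩
  · have hinv' : ∀ g ∈ stabW, ∀ x ∈ N, wM 2 g x ∈ N := by
      intro g hg x hx
      obtain ⟨a, ha, rfl⟩ := List.mem_map.1 hg
      exact hinv a ha x hx
    by_cases hsmall : ∀ x ∈ N, x ∈ [0, 5, 10, 15]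
    · have hle : N.card ≤ 4 := by
        calc N.card ≤ [0, 5, 10, 15].toFinset.card :=
              Finset.card_le_card fun x hx => List.mem_toFinset.2 (hsmall x hx)
          _ ≤ 4 := List.toFinset_card_le _
      exact ⟨by omega, fun h => absurd h (by omega)⟩
    push Not at hsmall
    obtain ⟨x, hx, hx4⟩ := hsmall
    have hmemL : ∀ y ∈ N, y ∈ isoL := fun y hy => by
      have h := List.all_eq_true.1 isoL_ok y (List.mem_range.2 (hN.lt y hy))
      rw [isoThree_of h5 hinv' hbil hy, Bool.not_true, Bool.false_or, List.contains_iff_mem] at h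
      exact h
    have hc := List.all_eq_true.1 plane_check_ok x (hmemL x hx)
    simp only [Bool.or_eq_true, List.contains_iff_mem, hx4, false_or, List.any_eq_true,
      List.all_eq_true, Bool.and_eq_true, Bool.not_eq_true'] at hc
    obtain ⟨P, hP, hspan, hsub⟩ := hc
    have hNP : N ⊆ P.toFinset := by
      intro y hy
      rw [List.mem_toFinset]
      rcases hsub y (hmemL y hy) with h | h
      · rw [← Bool.not_eq_true, List.all_eq_true] at h
        refine absurd (fun g hg => ?_) h
        rw [Bool.not_eq_true']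
        rcases List.mem_cons.1 hg with rfl | hg
        · exact hbil x hx y hy
        · exact hbil _ (hinv' g hg x hx) y hy
      · exact h
    have hPc := List.all_eq_true.1 plane_closed_ok P hP
    simp only [Bool.and_eq_true, decide_eq_true_eq, List.all_eq_true, List.mem_range,
      Bool.or_eq_true, List.contains_iff_mem] at hPc
    have hlen : P.toFinset.card ≤ 16 := hPc.1 ▸ List.toFinset_card_le P
    refine ⟨(Finset.card_le_card hNP).trans hlen, fun _ u hu hb hmem => ?_⟩
    have hEq : N = P.toFinset := Finset.Subset.antisymm hNP fun z hz => by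
      have hword : ∀ g : List Nat, (∀ a ∈ g, a ∈ stabN) → wN g x ∈ N := by
        intro g
        induction g with
        | nil => exact fun _ => hx
        | cons a g ih =>
          exact fun hg => hinv a (hg a List.mem_cons_self) _ (ih fun b hb => hg b (List.mem_cons_of_mem _ hb))
      refine spanX_mem hN (fun y hy => ?_) z (hspan z (List.mem_toFinset.1 hz))
      rcases List.mem_cons.1 hy with rfl | hy
      · exact h5
      · obtain ⟨g, hg, rfl⟩ := List.mem_map.1 hy
        exact hword g (wTwo_ok g hg)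
    rw [hEq, List.mem_toFinset]
    rcases hPc.2 u hu with (h | h) | h
    · rw [hb] at h; exact absurd h (by decide)
    · rw [Bool.not_eq_true', ← Bool.not_eq_true, List.all_eq_true] at h
      refine absurd (fun a ha => ?_) h
      rw [List.contains_iff_mem, ← List.mem_toFinset, ← hEq]
      exact hmem a ha
    · exact h
  · intro m hm v hv hv0 hq N hN hvN hinv hbil
    have hsplit : ∀ n < 256, ∃ h < 4, (n = n &&& 63 ||| h * 64) ∧ (n &&& 63) < 64 := by decide +kernel
    obtain ⟨h, hh, hvd, hy⟩ := hsplit v hv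
    have hbase : ∃ e ∈ sixBase, ∃ w, OkW w ∧ w6 w e.1 = v &&& 63 ∧ e.1 < 64 := by
      by_cases hy0 : v &&& 63 = 0
      · exact ⟨(0, [[5], [20], [80], [7]]), by simp [sixBase], [], ok_nil,
          by rw [hy0]; rfl, by norm_num⟩
      obtain ⟨w, hw, e⟩ := orbit_prop.2 _ hy hy0
      cases hqy : qB 0 (v &&& 63)
      · rw [hqy] at e; exact ⟨(5, [[20], [68, 17], [86, 66]]), by simp [sixBase], w, hw, e, by norm_num⟩
      · rw [hqy] at e; exact ⟨(1, [[5], [6], [80], [102]]), by simp [sixBase], w, hw, e, by norm_num⟩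
    obtain ⟨e, he, w, hw, ew, he64⟩ := hbase
    have hm2 : (m == 2) = false := beq_eq_false_iff_ne.2 (by omega)
    have hv₀ : (e.1 ||| h * 64) < 256 := Nat.or_lt_two_pow (n := 8) (by omega) (by omega)
    have hwv : wM m w (e.1 ||| h * 64) = v := by
      have hd : ∀ b < 64, ∀ k < 4, (b ||| k * 64) &&& 63 = b ∧ (b ||| k * 64) &&& 192 = k * 64 := by
        decide +kernel
      rw [wM_six hm2 w hv₀, (hd _ he64 _ hh).1, (hd _ he64 _ hh).2, ew]
      exact hvd.symm
    have hc := List.all_eq_true.1 (List.all_eq_true.1 (List.all_eq_true.1 six_base_ok m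
      (List.mem_range.2 hm)) e he) h (List.mem_range.2 hh)
    have hq0 : qB m (e.1 ||| h * 64) = false := by
      rw [← qB_act (show m < 3 by omega) (wS w) hv₀, act_word m hw hv₀, hwv, hq]
    have hn0 : (e.1 ||| h * 64) ≠ 0 := fun h0 => hv0 (by rw [← hwv, h0, wM_zero])
    simp only [hq0, beq_eq_false_iff_ne.2 hn0, Bool.false_or, Bool.and_eq_true, List.all_eq_true,
      beq_iff_eq, decide_eq_true_eq] at hc
    obtain ⟨hgs, hlen⟩ := hc
    set v₀ := e.1 ||| h * 64 with hv₀def
    set N' := (Finset.range 256).filter fun n => wM m w n ∈ N with hN'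
    have hcard : N.card ≤ N'.card := by
      refine Finset.card_le_card_of_injOn (fun n => act m (wS w)⁻¹ n) ?_ ?_
      · intro n hn
        simp only [hN', Finset.coe_filter, Set.mem_setOf_eq, Finset.mem_range]
        have hlt := hN.lt n (Finset.mem_coe.1 hn)
        refine ⟨act_lt m _ hlt, ?_⟩
        rw [← act_word m hw (act_lt m _ hlt), act_inv_right m _ hlt]
        exact hn
      · intro a ha b hb hab
        have hab' : act m (wS w)⁻¹ a = act m (wS w)⁻¹ b := hab
        have := congrArg (act m (wS w)) hab'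
        rwa [act_inv_right m _ (hN.lt a ha), act_inv_right m _ (hN.lt b hb)] at this
    have hv₀' : v₀ ∈ N' := by simp [hN', hwv, hvN, hv₀]
    have hbil' : ∀ x ∈ N', ∀ y ∈ N', bB m x y = false := by
      intro x hx y hy
      simp only [hN', Finset.mem_filter, Finset.mem_range] at hx hy
      rw [← bB_act (show m < 3 by omega) (wS w) hx.1 hy.1, act_word m hw hx.1, act_word m hw hy.1]
      exact hbil _ hx.2 _ hy.2
    have hinv' : ∀ g ∈ e.2, ∀ x ∈ N', wM m g x ∈ N' := by
      intro g hg x hx
      simp only [hN', Finset.mem_filter, Finset.mem_range] at hx ⊢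
      have hgok := ok_of_okB (hgs g hg).1
      refine ⟨wM_lt m g hx.1, ?_⟩
      have hback : ∀ n < 256, wM m w.reverse (wM m w n) = n := fun n hn => by
        rw [← act_word m hw hn, ← act_word m (ok_reverse hw) (act_lt m _ hn), wS_reverse hw,
          act_inv_left m _ hn]
      have h1 := hinv (w ++ g ++ w.reverse) (ok_append (ok_append hw hgok) (ok_reverse hw)) (by
        rw [wM_append, wM_append, ← hwv, hback _ hv₀, (hgs g hg).2]) _ hx.2
      rwa [wM_append, wM_append, hback _ hx.1] at h1
    simp only [cliqueFour, Bool.and_eq_true, decide_eq_true_eq, List.all_eq_true] at hlen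
    set C := (List.range 256).filter fun x => isoThree m v₀ e.2 x with hC
    set s := C.filter fun x => decide (x ∈ N') with hs
    have hsub : N' ⊆ s.toFinset := fun x hx => by
      simp only [hs, hC, List.mem_toFinset, List.mem_filter, List.mem_range, decide_eq_true_eq]
      refine ⟨⟨?_, isoThree_of hv₀' hinv' hbil' hx⟩, hx⟩
      simp only [hN', Finset.mem_filter, Finset.mem_range] at hx
      exact hx.1
    have h4 := hlen.2 s (List.mem_sublists.2 List.filter_sublist)
    have hsN : ∀ x ∈ s, x ∈ N' := fun x hx => by simpa [hs] using (List.mem_filter.1 hx).2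
    rcases Bool.or_eq_true _ _ |>.mp h4 with h4 | h4
    · exact hcard.trans ((Finset.card_le_card hsub).trans
        ((List.toFinset_card_le _).trans (Nat.ble_eq.mp h4)))
    · rw [Bool.not_eq_true', ← Bool.not_eq_true, List.all_eq_true] at h4
      refine absurd (fun x hx => ?_) h4
      rw [List.all_eq_true]
      intro y hy
      rw [Bool.not_eq_true']
      exact hbil' x (hsN x hx) y (hsN y hy)

/-- the xor of the images of a code -/
def sumIm (ws : List (List Nat)) (k : Nat) : Nat := ws.foldr (fun u r => wN u k ^^^ r) 0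

theorem r2_ok : (List.range 64).all (fun i => !(eqW (sW i ++ sW i) []) ||
    !(((List.range 256).filter fun n => wN (sW i) n == n).length == 16) ||
    r2Conj.any fun p => p.1 == i && okB p.2 && eqW (p.2 ++ sW i ++ p.2.reverse) [80, 5]) = true := by
  decide +kernel

theorem irred_cert_ok : (List.range 256).all (fun k => k == 0 || !(wN [80, 5] k == k) ||
    irredCert.any fun c => c.1 == k &&
      c.2.1.all (fun u => okB u && eqW (u ++ [80, 5]) ([80, 5] ++ u)) &&
      c.2.2.1.all (fun u => okB u && eqW (u ++ [80, 5]) ([80, 5] ++ u)) &&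
      !(sumIm c.2.1 k == 0) && !(sumIm c.2.2.1 k == 0) && !(sumIm c.2.1 k == sumIm c.2.2.1 k) &&
      decide (c.2.2.2 < 256) && wN [80, 5] c.2.2.2 ^^^ c.2.2.2 == sumIm c.2.2.1 k &&
      !(bB 2 (sumIm c.2.1 k) c.2.2.2)) = true := by
  decide +kernel

theorem irred_prop : IrredProp := by
  intro w hw h2 hfix K hK hKfix hKinv
  by_cases h1 : K.card = 1
  · exact Or.inl h1
  obtain ⟨k, hk, hk0⟩ : ∃ k ∈ K, k ≠ 0 := by
    by_contra hcon
    push Not at hcon
    exact h1 (Finset.card_eq_one.2 ⟨0, Finset.eq_singleton_iff_unique_mem.2 ⟨hK.zero, hcon⟩⟩)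
  right
  have hne : wS w ≠ 1 := by
    intro he
    have h := fixC_word 2 hw
    rw [he, ← wS_nil, fixC_word 2 ok_nil] at h
    have : ((List.range 256).filter fun n => wM 2 [] n == n).length = 256 := by decide +kernel
    rw [this] at h
    exact absurd (h.trans hfix) (by norm_num)
  obtain ⟨g, i, hi, e, hs, -⟩ := involution_conj h2 hne
  have hcnt : (((List.range 256).filter fun n => wN (sW i) n == n).length == 16) = true := by
    have h := fixC_word 2 hw
    rw [e, fixC_conj, fixC_word 2 (sW_ok i)] at h
    exact beq_iff_eq.2 (h.trans hfix)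
  have hc := List.all_eq_true.1 r2_ok i (List.mem_range.2 hi)
  simp only [hs, hcnt, Bool.not_true, Bool.false_or, List.any_eq_true, Bool.and_eq_true,
    beq_iff_eq] at hc
  obtain ⟨p, -, ⟨-, hp⟩, hpe⟩ := hc
  have hp' := ok_of_okB hp
  set h := wS p.2 * g⁻¹ with hh
  have hconj : h * wS w * h⁻¹ = wS [80, 5] := by
    rw [← wS_of_eqW hpe, wS_append, wS_append, wS_reverse hp', hh, e]; group
  have h80 : ∀ a ∈ [80, 5], a ∈ ptsL := by decide
  set k' := act 2 h k with hk'
  have hklt := hK.lt k hk
  have hk'lt : k' < 256 := act_lt 2 h hklt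
  have hk'fix : wN [80, 5] k' = k' := by
    rw [← wM_two, ← act_word 2 h80 hk'lt, ← hconj, act_mul 2 _ _ hk'lt, act_mul 2 _ _ (act_lt 2 _ hk'lt),
      hk', act_inv_left 2 _ hklt, act_word 2 hw hklt, wM_two, hKfix k hk]
  have hk'0 : k' ≠ 0 := fun h0 => hk0 (by
    have := act_inv_left 2 h hklt
    rw [← hk', h0] at this
    exact this.symm.trans (wM_zero 2 _))
  have hcc := List.all_eq_true.1 irred_cert_ok k' (List.mem_range.2 hk'lt)
  simp only [beq_eq_false_iff_ne.2 hk'0, hk'fix, beq_self_eq_true, Bool.not_true, Bool.false_or,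
    List.any_eq_true, Bool.and_eq_true, List.all_eq_true, decide_eq_true_eq, beq_iff_eq,
    Bool.not_eq_true', beq_eq_false_iff_ne] at hcc
  obtain ⟨c, -, ⟨⟨⟨⟨⟨⟨⟨-, hu1⟩, hu2⟩, hz1⟩, hz2⟩, hne12⟩, hj⟩, hje⟩, hbj⟩ := hcc
  have hsum : ∀ ws : List (List Nat),
      (∀ u ∈ ws, okB u = true ∧ eqW (u ++ [80, 5]) ([80, 5] ++ u) = true) →
      sumIm ws k' < 256 ∧ act 2 h⁻¹ (sumIm ws k') ∈ K := by
    intro ws
    induction ws with
    | nil => exact fun _ => ⟨Nat.zero_lt_succ _, by
        rw [show act 2 h⁻¹ (sumIm [] k') = 0 from wM_zero 2 _]; exact hK.zero⟩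
    | cons u ws ih =>
      intro hall
      obtain ⟨ih1, ih2⟩ := ih fun v hv => hall v (List.mem_cons_of_mem _ hv)
      obtain ⟨huok, hue⟩ := hall u List.mem_cons_self
      have hu := ok_of_okB huok
      have hlt : wN u k' < 256 := wN_lt u hk'lt
      refine ⟨xor_lt8 hlt ih1, ?_⟩
      show act 2 h⁻¹ (wN u k' ^^^ sumIm ws k') ∈ K
      rw [act_xor 2 _ hlt ih1]
      refine hK.add _ ?_ _ ih2
      have hv : wS (wd (h⁻¹ * wS u * h)) * wS w = wS w * wS (wd (h⁻¹ * wS u * h)) := by
        rw [wS_wd]
        have hcu := wS_of_eqW hue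
        rw [wS_append, wS_append, ← hconj] at hcu
        calc h⁻¹ * wS u * h * wS w = h⁻¹ * (wS u * (h * wS w * h⁻¹)) * h := by group
          _ = h⁻¹ * (h * wS w * h⁻¹ * wS u) * h := by rw [hcu]
          _ = _ := by group
      have := hKinv _ (wd_ok (h⁻¹ * wS u * h)) hv k hk
      rw [← wM_two, ← act_word 2 (wd_ok _) hklt, wS_wd, act_mul 2 _ _ hklt,
        act_mul 2 _ _ hk'lt, act_word 2 hu hk'lt, wM_two] at this
      exact this
  obtain ⟨a1, b1⟩ := hsum _ hu1
  obtain ⟨a2, b2⟩ := hsum _ hu2
  refine ⟨_, b1, _, b2, act 2 h⁻¹ c.2.2.2, act_lt 2 _ hj, ?_, ?_, ?_, ?_, ?_⟩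
  · exact fun h0 => hz1 (by rw [← act_inv_right 2 h a1, h0]; exact wM_zero 2 _)
  · exact fun h0 => hz2 (by rw [← act_inv_right 2 h a2, h0]; exact wM_zero 2 _)
  · exact fun h0 => hne12 (by
      have := congrArg (act 2 h) h0
      rwa [act_inv_right 2 h a1, act_inv_right 2 h a2] at this)
  · rw [← wM_two, ← act_word 2 hw (act_lt 2 _ hj)]
    have h' : act 2 (wS w) (act 2 h⁻¹ c.2.2.2) = act 2 h⁻¹ (wN [80, 5] c.2.2.2) := by
      rw [← act_mul 2 _ _ hj, ← wM_two, ← act_word 2 h80 hj, ← act_mul 2 _ _ hj, ← hconj]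
      congr 1
      group
    rw [h', ← act_xor 2 _ (wN_lt _ hj) hj, hje]
  · rw [bB_act (by norm_num) h⁻¹ a1 hj]; exact hbj

end Cfsg.Agent.Lib.U62Cent47.Facts
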