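import Cfsg.Agent.Lib.U62Cent47.Facts.Base
import Cfsg.Agent.Lib.U62Cent47.Facts.Cert
import Mathlib.GroupTheory.Sylow

/-!
A Sylow 2-subgroup of SU(4, 2) as a list, and conjugation into it.

Owner: helper94.
-/

set_option autoImplicit false
set_option maxRecDepth 20000

namespace Cfsg.Agent.Lib.U62Cent47.Facts

open Cfsg.Agent.Lib.U62Cent47
open scoped Pointwise

/-- the word of a member of the Sylow subgroup -/
def sW (i : Nat) : List Nat := sylL.getD i []

theorem sW_ok (i : Nat) : ∀ a ∈ sW i, a ∈ ptsL := by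
  have h : sylL.all okB = true := by decide +kernel
  by_cases hi : i < sylL.length
  · rw [sW, List.getD_eq_getElem?_getD, List.getElem?_eq_getElem hi, Option.getD_some]
    exact ok_of_okB (List.all_eq_true.1 h _ (List.getElem_mem hi))
  · rw [sW, List.getD_eq_getElem?_getD, List.getElem?_eq_none (by omega), Option.getD_none]
    exact ok_nil

theorem syl_gen_ok : (List.range 64).all (fun i => sylGen.all fun g => (List.range 64).any fun j =>
    eqW (sW i ++ g) (sW j)) = true := by decide +kernel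

theorem syl_exp_ok : (List.range 64).all (fun i =>
    (sylExp.getD i []).all (fun k => decide (k < 6)) &&
      eqW ((sylExp.getD i []).flatMap fun k => sylGen.getD k []) (sW i)) = true := by decide +kernel

theorem syl_distinct : (List.range 64).all (fun i => (List.range i).all fun j =>
    !(eqW (sW i) (sW j))) = true := by decide +kernel

theorem gen_ok : ∀ g ∈ sylGen, okB g = true := by decide +kernel

/-- the Sylow 2-subgroup -/
noncomputable def syl : Subgroup SU4 := Subgroup.closure {x | ∃ w ∈ sylGen, x = wS w}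

theorem mem_syl {x : SU4} : x ∈ syl ↔ ∃ i < 64, x = wS (sW i) := by
  constructor
  · intro hx
    rw [syl, ← Subgroup.mem_toSubmonoid, Subgroup.closure_toSubmonoid_of_finite] at hx
    suffices h : ∀ i < 64, ∃ j < 64, wS (sW i) * x = wS (sW j) by
      obtain ⟨j, hj, e⟩ := h 0 (by norm_num)
      refine ⟨j, hj, ?_⟩
      rwa [show sW 0 = [] from rfl, wS_nil, one_mul] at e
    induction hx using Submonoid.closure_induction with
    | one => exact fun i hi => ⟨i, hi, mul_one _⟩
    | mul a b _ _ ha hb =>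
      intro i hi
      obtain ⟨j, hj, e⟩ := ha i hi
      obtain ⟨k, hk, e'⟩ := hb j hj
      exact ⟨k, hk, by rw [← mul_assoc, e, e']⟩
    | mem a ha =>
      obtain ⟨w, hw, rfl⟩ := ha
      intro i hi
      have h := List.all_eq_true.1 (List.all_eq_true.1 syl_gen_ok i (List.mem_range.2 hi)) w hw
      rw [List.any_eq_true] at h
      obtain ⟨j, hj, e⟩ := h
      exact ⟨j, List.mem_range.1 hj, by rw [← wS_append, wS_of_eqW e]⟩
  · rintro ⟨i, hi, rfl⟩
    have h := List.all_eq_true.1 syl_exp_ok i (List.mem_range.2 hi)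
    simp only [Bool.and_eq_true, List.all_eq_true, decide_eq_true_eq] at h
    rw [← wS_of_eqW h.2]
    have key : ∀ l : List Nat, (∀ k ∈ l, k < 6) →
        wS (l.flatMap fun k => sylGen.getD k []) ∈ syl := by
      intro l hl
      induction l with
      | nil => exact syl.one_mem
      | cons k l ih =>
        rw [List.flatMap_cons, wS_append]
        refine syl.mul_mem (Subgroup.subset_closure ⟨_, ?_, rfl⟩)
          (ih fun a ha => hl a (List.mem_cons_of_mem _ ha))
        have hk : k < sylGen.length := hl k List.mem_cons_self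
        rw [List.getD_eq_getElem?_getD, List.getElem?_eq_getElem hk, Option.getD_some]
        exact List.getElem_mem hk
    exact key _ h.1

theorem sW_inj {i j : Nat} (hi : i < 64) (hj : j < 64) (h : wS (sW i) = wS (sW j)) : i = j := by
  rcases Nat.lt_trichotomy i j with hlt | e | hlt
  · have := List.all_eq_true.1 (List.all_eq_true.1 syl_distinct j (List.mem_range.2 hj)) i
      (List.mem_range.2 hlt)
    rw [eqW_of_wS (sW_ok _) (sW_ok _) h.symm] at this
    exact absurd this (by decide)
  · exact e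
  · have := List.all_eq_true.1 (List.all_eq_true.1 syl_distinct i (List.mem_range.2 hi)) j
      (List.mem_range.2 hlt)
    rw [eqW_of_wS (sW_ok _) (sW_ok _) h] at this
    exact absurd this (by decide)

theorem card_syl : Nat.card syl = 64 := by
  have hb : Function.Bijective
      (fun i : Fin 64 => (⟨wS (sW i.1), mem_syl.2 ⟨i.1, i.2, rfl⟩⟩ : syl)) := by
    refine ⟨fun i j h => Fin.ext (sW_inj i.2 j.2 (congrArg Subtype.val h)), fun x => ?_⟩
    obtain ⟨i, hi, e⟩ := mem_syl.1 x.2
    exact ⟨⟨i, hi⟩, Subtype.ext e.symm⟩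
  rw [← Nat.card_congr (Equiv.ofBijective _ hb), Nat.card_eq_fintype_card, Fintype.card_fin]

theorem syl_index : syl.index = 405 := by
  have h := syl.card_mul_index
  rw [card_syl, card_SU4] at h
  omega

/-- every 2-subgroup has a conjugate in the Sylow subgroup -/
theorem exists_conj (E : Subgroup SU4) (hE : IsPGroup 2 E) :
    ∃ g : SU4, ∀ x ∈ E, g * x * g⁻¹ ∈ syl := by
  haveI : Fact (Nat.Prime 2) := ⟨Nat.prime_two⟩
  haveI : Finite SU4 := Nat.finite_of_card_ne_zero (by rw [card_SU4]; norm_num)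
  have hs : IsPGroup 2 syl := IsPGroup.of_card (n := 6) (by rw [card_syl]; norm_num)
  obtain ⟨P, hP⟩ := hE.exists_le_sylow
  obtain ⟨g, hg⟩ := MulAction.exists_smul_eq SU4 P (hs.toSylow (by rw [syl_index]; norm_num))
  refine ⟨g, fun x hx => ?_⟩
  have h1 : MulAut.conj g • x ∈ MulAut.conj g • (P : Subgroup SU4) :=
    Subgroup.smul_mem_pointwise_smul _ _ _ (hP hx)
  have h2 := congrArg (fun Q : Sylow 2 SU4 => (Q : Subgroup SU4)) hg
  simp only [Sylow.coe_subgroup_smul] at h2
  rw [h2] at h1
  exact h1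

theorem exists_conj_elt {A : SU4} (k : Nat) (hA : orderOf A = 2 ^ k) :
    ∃ g : SU4, ∃ i < 64, A = g * wS (sW i) * g⁻¹ := by
  haveI : Fact (Nat.Prime 2) := ⟨Nat.prime_two⟩
  obtain ⟨g, hg⟩ := exists_conj (Subgroup.zpowers A)
    (IsPGroup.of_card (n := k) (by rw [Nat.card_zpowers, hA]))
  obtain ⟨i, hi, e⟩ := mem_syl.1 (hg A (Subgroup.mem_zpowers A))
  exact ⟨g⁻¹, i, hi, by rw [← e]; group⟩

theorem conj_eq_one {g s : SU4} : g * s * g⁻¹ = 1 ↔ s = 1 := by
  rw [mul_inv_eq_one, mul_eq_left]

theorem involution_conj {A : SU4} (h : A * A = 1) (h1 : A ≠ 1) :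
    ∃ g : SU4, ∃ i < 64, A = g * wS (sW i) * g⁻¹ ∧ eqW (sW i ++ sW i) [] = true ∧
      eqW (sW i) [] = false := by
  have ho : orderOf A = 2 ^ 1 := by
    rw [pow_one]
    exact orderOf_eq_prime (by rw [pow_two, h]) h1
  obtain ⟨g, i, hi, e⟩ := exists_conj_elt 1 ho
  refine ⟨g, i, hi, e, eqW_of_wS (ok_append (sW_ok i) (sW_ok i)) ok_nil ?_, ?_⟩
  · rw [wS_append, wS_nil, ← conj_eq_one (g := g), ← h, e]; group
  · rw [Bool.eq_false_iff]
    intro hq
    exact h1 (by rw [e, wS_of_eqW hq, wS_nil, mul_one, mul_inv_cancel])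

end Cfsg.Agent.Lib.U62Cent47.Facts
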